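import Mathlib
import Cfsg.Agent.Lib.NumberTheory.Zsigmondy
import Cfsg.Agent.Lib.H82.AutFrattini
import Cfsg.Agent.Lib.FewOrders.Prime

/-!
# The normaliser of a transitive linear group in characteristic two

If `H` is a normal subgroup of `L ≤ GL_n(2)` transitive on the nonzero vectors, `L / H` is solvable.
A Sylow subgroup of `H` for a primitive prime divisor of `2 ^ n - 1` (for the prime 3 when `n = 6`) is
irreducible, so its normaliser is solvable, and that normaliser covers `L / H`.
-/

set_option autoImplicit false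
set_option linter.unusedSectionVars false

namespace CfsgLib.OutSylowTwo

open Subgroup
open scoped commutatorElement

universe u

variable {V : Type u} [AddCommGroup V] [Finite V] {L : Type u} [Group L] [Finite L]
  (ρ : L →* AddMonoid.End V)

/-- A subgroup without invariant subspaces. -/
def Irr (R : Subgroup L) : Prop :=
  ∀ A : AddSubgroup V, (∀ g ∈ R, ∀ x ∈ A, ρ g x ∈ A) → A = ⊥ ∨ A = ⊤

/-- The stabiliser of a vector. -/
def stabSub (v : V) : Subgroup L where
  carrier := {g | ρ g v = v}
  one_mem' := by show ρ 1 v = v; rw [map_one]; rfl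
  mul_mem' := fun {a b} (ha : ρ a v = v) (hb : ρ b v = v) => by
    show ρ (a * b) v = v
    rw [map_mul]
    show ρ a (ρ b v) = v
    rw [hb, ha]
  inv_mem' := fun {a} (ha : ρ a v = v) => by
    show ρ a⁻¹ v = v
    conv_lhs => rw [← ha]
    show (ρ a⁻¹ * ρ a) v = v
    rw [← map_mul, inv_mul_cancel, map_one]; rfl

theorem act_cancel (g : L) (x : V) : ρ g⁻¹ (ρ g x) = x := by
  show (ρ g⁻¹ * ρ g) x = x
  rw [← map_mul, inv_mul_cancel, map_one]; rfl

/-- The action on the nonzero vectors of an invariant subgroup. -/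
def nzAction (R : Subgroup L) (A : AddSubgroup V) (hA : ∀ g ∈ R, ∀ x ∈ A, ρ g x ∈ A) :
    MulAction R {x : V // x ∈ A ∧ x ≠ 0} where
  smul g x := ⟨ρ g x.1, hA g g.2 _ x.2.1, fun h => x.2.2 (by
    rw [← act_cancel ρ (g : L) x.1, h, map_zero])⟩
  one_smul x := Subtype.ext (by show ρ ((1 : R) : L) x.1 = x.1; rw [OneMemClass.coe_one, map_one]; rfl)
  mul_smul a b x := Subtype.ext (by show ρ ((a * b : R) : L) x.1 = _; rw [Subgroup.coe_mul, map_mul]; rfl)

theorem dvd_card_sub_one (R : Subgroup L) (A : AddSubgroup V) (hA : ∀ g ∈ R, ∀ x ∈ A, ρ g x ∈ A) {m : ℕ}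
    (hm : ∀ v : V, v ≠ 0 → m ∣ ((stabSub ρ v).subgroupOf R).index) : m ∣ Nat.card A - 1 := by
  classical
  letI := nzAction ρ R A hA
  letI := Fintype.ofFinite V
  have hcard : Nat.card {x : V // x ∈ A ∧ x ≠ 0} = Nat.card A - 1 := by
    rw [Nat.card_congr (Equiv.subtypeSubtypeEquivSubtypeInter (fun x : V => x ∈ A) (fun x => x ≠ 0)).symm,
      Nat.card_eq_fintype_card]
    have h := Fintype.card_subtype_compl (fun x : A => x = 0)
    rw [Fintype.card_subtype_eq, ← Nat.card_eq_fintype_card (α := A)] at h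
    refine Eq.trans ?_ h
    exact Fintype.card_congr (Equiv.subtypeEquivRight fun x => by simp)
  rw [← hcard, Nat.card_congr (MulAction.selfEquivSigmaOrbits R {x : V // x ∈ A ∧ x ≠ 0})]
  haveI := Fintype.ofFinite (Quotient (MulAction.orbitRel R {x : V // x ∈ A ∧ x ≠ 0}))
  rw [Nat.card_sigma]
  refine Finset.dvd_sum fun ω _ => ?_
  have h := hm _ (Quotient.out ω).2.2
  have he : (stabSub ρ (Quotient.out ω).1).subgroupOf R = MulAction.stabilizer R (Quotient.out ω) := by
    ext g
    rw [Subgroup.mem_subgroupOf, MulAction.mem_stabilizer_iff, Subtype.ext_iff]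
    exact Iff.rfl
  rw [he, MulAction.index_stabilizer] at h
  exact h

variable (h2 : ∀ v : V, v + v = 0) {n : ℕ} (hn : Nat.card V = 2 ^ n)
include h2 hn

theorem irr_of_orbits (R : Subgroup L) {m : ℕ}
    (hm : ∀ v : V, v ≠ 0 → m ∣ ((stabSub ρ v).subgroupOf R).index)
    (hfull : ∀ i, i ≤ n → m ∣ 2 ^ i - 1 → i = 0 ∨ i = n) : Irr ρ R := by
  intro A hA
  letI : Module (ZMod 2) A :=
    AddCommGroup.zmodModule (n := 2) (G := A) fun x => by rw [two_nsmul]; exact Subtype.ext (h2 x)
  obtain ⟨i, hi⟩ : ∃ i, Nat.card A = 2 ^ i :=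
    ⟨_, (Module.natCard_eq_pow_finrank (K := ZMod 2) (V := A)).trans (by rw [Nat.card_zmod])⟩
  have hle : i ≤ n := by
    have h := AddSubgroup.card_addSubgroup_dvd_card A
    rw [hi, hn] at h
    exact Nat.pow_dvd_pow_iff_le_right (by norm_num) |>.1 h
  rcases hfull i hle (by rw [← hi]; exact dvd_card_sub_one ρ R A hA hm) with h | h
  · exact Or.inl (AddSubgroup.card_eq_one.1 (by rw [hi, h, pow_zero]))
  · exact Or.inr (AddSubgroup.eq_top_of_card_eq A (by rw [hi, h, hn]))

omit h2 hn

variable (hρ : Function.Injective ρ)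
include hρ

/-- The centraliser of an irreducible subgroup is cyclic. -/
theorem isCyclic_centralizer [Nontrivial V] {R : Subgroup L} (hR : Irr ρ R) :
    IsCyclic (Subgroup.centralizer (R : Set L)) := by
  let T : Subring (AddMonoid.End V) := Subring.centralizer (ρ '' (R : Set L))
  haveI : Finite (AddMonoid.End V) :=
    Finite.of_injective (fun f : AddMonoid.End V => (f : V → V)) DFunLike.coe_injective
  have hker : ∀ f : T, f ≠ 0 → Function.Injective (f.1 : V → V) := by
    intro f hf
    let K : AddSubgroup V := AddMonoidHom.ker (f.1 : V →+ V)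
    rcases hR K (fun g hg x hx => by
      have h := DFunLike.congr_fun (Subring.mem_centralizer_iff.1 f.2 _ ⟨g, hg, rfl⟩) x
      change f.1 (ρ g x) = 0
      change ρ g (f.1 x) = f.1 (ρ g x) at h
      rw [← h, show f.1 x = 0 from hx, map_zero]) with h | h
    · exact (AddMonoidHom.ker_eq_bot_iff (f.1 : V →+ V)).1 h
    · exact absurd (Subtype.ext (AddMonoidHom.ext fun x => (h ▸ AddSubgroup.mem_top x : x ∈ K)) :
        f = 0) hf
  haveI : NoZeroDivisors T := ⟨fun {a b} hab => by
    by_cases ha : a = 0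
    · exact Or.inl ha
    refine Or.inr (Subtype.ext (AddMonoidHom.ext fun x => hker a ha ?_))
    show a.1 (b.1 x) = a.1 0
    rw [map_zero]
    exact DFunLike.congr_fun (congrArg Subtype.val hab) x⟩
  haveI : Nontrivial T := ⟨⟨0, 1, fun h => by
    obtain ⟨x, hx⟩ := exists_ne (0 : V)
    exact hx (DFunLike.congr_fun (congrArg Subtype.val h) x).symm⟩⟩
  haveI : IsDomain T := NoZeroDivisors.to_isDomain T
  letI : Field T := (Finite.isDomain_to_isField T).toField
  let f : Subgroup.centralizer (R : Set L) →* T :=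
    { toFun := fun c => ⟨ρ c.1, Subring.mem_centralizer_iff.2 (by
        rintro _ ⟨g, hg, rfl⟩
        rw [← map_mul, ← map_mul, Subgroup.mem_centralizer_iff.1 c.2 g hg])⟩
      map_one' := Subtype.ext (map_one ρ)
      map_mul' := fun a b => Subtype.ext (map_mul ρ _ _) }
  exact isCyclic_of_subgroup_isDomain f fun a b h => Subtype.ext (hρ (congrArg Subtype.val h))

/-- An irreducible subgroup with solvable automorphism group has solvable normaliser. -/
theorem solvable_normalizer [Nontrivial V] {R : Subgroup L} (hR : Irr ρ R)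
    (hA : Group.IsSolvable (MulAut R)) : Group.IsSolvable (Subgroup.normalizer (R : Set L)) := by
  haveI := hA
  haveI := isCyclic_centralizer ρ hρ hR
  haveI : Group.IsSolvable (R.normalizerMonoidHom).ker := Group.isSolvable_of_comm fun a b => by
    have hk : ∀ c : (R.normalizerMonoidHom).ker, (c.1 : L) ∈ Subgroup.centralizer (R : Set L) := fun c => by
      exact Subgroup.mem_subgroupOf.1 ((le_of_eq (Subgroup.normalizerMonoidHom_ker R)) c.2)
    have h := IsMulCommutative.is_comm.comm
      (⟨_, hk a⟩ : Subgroup.centralizer (R : Set L)) ⟨_, hk b⟩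
    exact Subtype.ext (Subtype.ext (congrArg (fun t : Subgroup.centralizer (R : Set L) => (t : L)) h))
  exact Group.isSolvable_of_ker_le_range (R.normalizerMonoidHom).ker.subtype R.normalizerMonoidHom
    ((R.normalizerMonoidHom).ker.range_subtype).ge

omit hρ

theorem mulAut_comm_of_isCyclic {G : Type u} [Group G] [Finite G] [IsCyclic G] (a b : MulAut G) :
    a * b = b * a := by
  haveI : NeZero (Nat.card G) := ⟨Nat.card_pos.ne'⟩
  exact (IsCyclic.mulAutMulEquiv G).injective (by rw [map_mul, map_mul, mul_comm])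

include hρ

/-- The normaliser of a group with irreducible centre is solvable. -/
theorem solvable_normalizer_of_center [Nontrivial V] {R Y : Subgroup L}
    (hY : Y ≤ R ⊓ Subgroup.centralizer (R : Set L)) (hYirr : Irr ρ Y) :
    Group.IsSolvable (Subgroup.normalizer (R : Set L)) := by
  set Z := R ⊓ Subgroup.centralizer (R : Set L) with hZ
  have hZirr : Irr ρ Z := fun A hA => hYirr A fun g hg => hA g (hY hg)
  have hZc : Z ≤ Subgroup.centralizer (Z : Set L) := fun x hx => Subgroup.mem_centralizer_iff.2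
    fun y hy => Subgroup.mem_centralizer_iff.1 hx.2 y hy.1
  haveI := isCyclic_centralizer ρ hρ hZirr
  haveI : IsCyclic Z := isCyclic_of_injective (Subgroup.inclusion hZc) (Subgroup.inclusion_injective hZc)
  have hA : Group.IsSolvable (MulAut Z) := Group.isSolvable_of_comm fun a b => mulAut_comm_of_isCyclic a b
  haveI := solvable_normalizer ρ hρ hZirr hA
  have hle : Subgroup.normalizer (R : Set L) ≤ Subgroup.normalizer (Z : Set L) := by
    intro g hg
    rw [Subgroup.mem_normalizer_iff]
    intro x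
    have hR : ∀ y, y ∈ R ↔ g * y * g⁻¹ ∈ R := Subgroup.mem_normalizer_iff.1 hg
    rw [hZ, Subgroup.mem_inf, Subgroup.mem_inf, ← hR x, Subgroup.mem_centralizer_iff,
      Subgroup.mem_centralizer_iff]
    refine and_congr_right fun _ => ⟨fun h y hy => ?_, fun h y hy => ?_⟩
    · have h1 : g⁻¹ * y * g ∈ R := (hR _).2 (by
        rwa [show g * (g⁻¹ * y * g) * g⁻¹ = y by group])
      calc y * (g * x * g⁻¹) = g * ((g⁻¹ * y * g) * x) * g⁻¹ := by group
        _ = g * (x * (g⁻¹ * y * g)) * g⁻¹ := by rw [h _ h1]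
        _ = g * x * g⁻¹ * y := by group
    · have h1 := h _ ((hR y).1 hy)
      calc y * x = g⁻¹ * ((g * y * g⁻¹) * (g * x * g⁻¹)) * g := by group
        _ = g⁻¹ * ((g * x * g⁻¹) * (g * y * g⁻¹)) * g := by rw [h1]
        _ = x * y := by group
  exact Group.isSolvable_of_isSolvable_injective (f := Subgroup.inclusion hle) (Subgroup.inclusion_injective hle)

omit hρ

/-- In a group of order `81` whose Frattini subgroup has order three the centre is not of order three. -/
theorem nine_le_center {R : Type u} [Group R] [Finite R] (h81 : Nat.card R = 81)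
    (hΦ : Nat.card (frattini R) = 3) : 9 ≤ Nat.card (Subgroup.center R) := by
  haveI : Fact (Nat.Prime 3) := ⟨by norm_num⟩
  have hR : IsPGroup 3 R := IsPGroup.of_card (n := 4) (by rw [h81]; norm_num)
  have hcard : ∀ K : Subgroup R, Nat.card K = 1 ∨ Nat.card K = 3 ∨ Nat.card K = 9 ∨ Nat.card K = 27 ∨
      Nat.card K = 81 := by
    intro K
    have h : Nat.card K ∣ 3 ^ 4 := by rw [show (3 : ℕ) ^ 4 = Nat.card R by rw [h81]; norm_num]; exact K.card_subgroup_dvd_card
    obtain ⟨k, hk, hk'⟩ := (Nat.dvd_prime_pow (by norm_num)).1 h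
    interval_cases k <;> simp [hk']
  have hidx : ∀ a : R, (Subgroup.centralizer ({a} : Set R)).index ≤ 3 := by
    intro a
    rw [Subgroup.index, ← hΦ]
    let f : R ⧸ Subgroup.centralizer ({a} : Set R) → frattini R := fun z =>
      Quotient.liftOn' z (fun x => (⟨⁅x, a⁆, CfsgLib.PGroup.commutator_le_frattini hR
        (Subgroup.commutator_mem_commutator (Subgroup.mem_top x) (Subgroup.mem_top a))⟩ : frattini R))
        fun x y hxy => by
          rw [QuotientGroup.leftRel_apply, Subgroup.mem_centralizer_singleton_iff] at hxy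
          refine Subtype.ext ?_
          show ⁅x, a⁆ = ⁅y, a⁆
          rw [commutatorElement_def, commutatorElement_def]
          calc x * a * x⁻¹ * a⁻¹ = x * (a * (x⁻¹ * y)) * y⁻¹ * a⁻¹ := by group
            _ = x * ((x⁻¹ * y) * a) * y⁻¹ * a⁻¹ := by rw [hxy]
            _ = _ := by group
    refine Nat.card_le_card_of_injective f ?_
    rintro ⟨x⟩ ⟨y⟩ h
    refine Quotient.sound' ?_
    rw [QuotientGroup.leftRel_apply, Subgroup.mem_centralizer_singleton_iff]
    have h1 : ⁅x, a⁆ = ⁅y, a⁆ := congrArg Subtype.val h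
    rw [commutatorElement_def, commutatorElement_def, mul_right_cancel_iff] at h1
    refine Eq.symm ?_
    calc a * (x⁻¹ * y) = x⁻¹ * (x * a * x⁻¹) * y := by group
      _ = x⁻¹ * (y * a * y⁻¹) * y := by rw [h1]
      _ = x⁻¹ * y * a := by group
  by_contra hlt
  have hZ : Subgroup.center R ≠ ⊤ := fun h => by rw [h, Subgroup.card_top, h81] at hlt; omega
  obtain ⟨a, ha⟩ : ∃ a, a ∉ Subgroup.center R := by
    by_contra hh; push Not at hh; exact hZ (eq_top_iff.2 fun x _ => hh x)
  obtain ⟨b, hb⟩ : ∃ b, b ∉ Subgroup.centralizer ({a} : Set R) := by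
    by_contra hh; push Not at hh
    exact ha (Subgroup.mem_center_iff.2 fun g => Subgroup.mem_centralizer_singleton_iff.1 (hh g))
  set A := Subgroup.centralizer ({a} : Set R)
  set B := Subgroup.centralizer ({b} : Set R)
  have haB : a ∉ B := fun h => hb (Subgroup.mem_centralizer_singleton_iff.2
    (Subgroup.mem_centralizer_singleton_iff.1 h).symm)
  have hA1 : A.index ≠ 1 := fun h => hb (Subgroup.index_eq_one.1 h ▸ Subgroup.mem_top b)
  have hAmul := A.card_mul_index
  rw [h81] at hAmul
  have hAi : A.index ≤ 3 := hidx a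
  have hA27 : Nat.card A = 27 := by
    rcases hcard A with h | h | h | h | h <;> rw [h] at hAmul ⊢ <;> omega
  have hD9 : Nat.card (A ⊓ B : Subgroup R) = 9 := by
    have h1 : (A ⊓ B).index ≤ 9 :=
      Subgroup.index_inf_le.trans ((Nat.mul_le_mul hAi (hidx b)).trans (by norm_num))
    have h2 := (A ⊓ B).card_mul_index
    rw [h81] at h2
    have h3 : Nat.card (A ⊓ B : Subgroup R) ≠ 27 := fun h => by
      have := Subgroup.eq_of_le_of_card_ge (inf_le_left : A ⊓ B ≤ A) (by rw [h, hA27])
      exact haB (this.ge (Subgroup.mem_centralizer_singleton_iff.2 rfl)).2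
    have h4 := Subgroup.card_le_of_le (inf_le_left : A ⊓ B ≤ A)
    rcases hcard (A ⊓ B) with h | h | h | h | h <;> rw [h] at h2 h3 h4 ⊢ <;> omega
  have hcomm : ∀ x y : (A ⊓ B : Subgroup R), x * y = y * x := fun x y =>
    IsPGroup.commutative_of_card_eq_prime_sq (p := 3) (by rw [hD9]; norm_num) x y
  set T := Subgroup.centralizer ((A ⊓ B : Subgroup R) : Set R)
  have hDT : A ⊓ B ≤ T := fun x hx => Subgroup.mem_centralizer_iff.2 fun y hy =>
    congrArg Subtype.val (hcomm ⟨y, hy⟩ ⟨x, hx⟩)
  have haT : a ∈ T := Subgroup.mem_centralizer_iff.2 fun y hy =>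
    Subgroup.mem_centralizer_singleton_iff.1 hy.1
  have hbT : b ∈ T := Subgroup.mem_centralizer_iff.2 fun y hy =>
    Subgroup.mem_centralizer_singleton_iff.1 hy.2
  have haA : a ∈ A := Subgroup.mem_centralizer_singleton_iff.2 rfl
  have hAT : A ≤ T := by
    have h1 : A ⊓ B ≤ A ⊓ T := le_inf inf_le_left hDT
    have h2 : A ⊓ B < A ⊓ T := lt_of_le_of_ne h1 fun h => haB (h.ge ⟨haA, haT⟩).2
    have h3 : Nat.card (A ⊓ B : Subgroup R) < Nat.card (A ⊓ T : Subgroup R) :=
      lt_of_le_of_ne (Subgroup.card_le_of_le h1) fun h => h2.ne (Subgroup.eq_of_le_of_card_ge h1 h.ge)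
    rw [hD9] at h3
    have h4 : A ⊓ T = A := Subgroup.eq_of_le_of_card_ge inf_le_left (by
      rcases hcard (A ⊓ T) with h | h | h | h | h <;> omega)
    exact h4.ge.trans inf_le_right
  have hT : T = ⊤ := by
    refine Subgroup.eq_top_of_card_eq T ?_
    have h1 : Nat.card A < Nat.card T := lt_of_le_of_ne (Subgroup.card_le_of_le hAT) fun h =>
      hb ((Subgroup.eq_of_le_of_card_ge hAT h.ge).ge hbT)
    rcases hcard T with h | h | h | h | h <;> omega
  have hDZ : A ⊓ B ≤ Subgroup.center R := fun x hx => Subgroup.mem_center_iff.2 fun g =>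
    (Subgroup.mem_centralizer_iff.1 (hT ▸ Subgroup.mem_top g : g ∈ T) x hx).symm
  have := Subgroup.card_le_of_le hDZ
  omega

/-- **The quotient by a transitive normal subgroup is solvable.** -/
theorem solvable_quot_of_transitive (hρ : Function.Injective ρ) (h2 : ∀ v : V, v + v = 0)
    (H : Subgroup L) [H.Normal]
    (htr : ∀ v w : V, v ≠ 0 → w ≠ 0 → ∃ h ∈ H, ρ h v = w) : Group.IsSolvable (L ⧸ H) := by
  classical
  haveI : Fact (Nat.Prime 2) := ⟨Nat.prime_two⟩
  letI : Module (ZMod 2) V :=
    AddCommGroup.zmodModule (n := 2) (G := V) fun x => by rw [two_nsmul]; exact h2 x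
  obtain ⟨n, hn⟩ : ∃ n, Nat.card V = 2 ^ n :=
    ⟨_, (Module.natCard_eq_pow_finrank (K := ZMod 2) (V := V)).trans (by rw [Nat.card_zmod])⟩
  -- the order of `L`
  have hcardL : Nat.card L ∣ ∏ i ∈ Finset.range n, (2 ^ n - 2 ^ i) := by
    have hM : Nat.card (Multiplicative V) = 2 ^ n := hn
    have hp2 : IsPGroup 2 (Multiplicative V) := IsPGroup.of_card hM
    have hbot : frattini (Multiplicative V) = ⊥ := le_bot_iff.1
      (CfsgLib.PGroup.frattini_le_of (p := 2) ⊥ (le_of_eq ((commutator_eq_bot_iff_center_eq_top _).2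
        (CommGroup.center_eq_top))) fun x => (Subgroup.mem_bot).2 (by rw [pow_two]; exact h2 x.toAdd))
    have h := CfsgLib.AutFrattini82.card_aut_dvd (r := n) hM (by rw [hbot, Subgroup.index_bot, hM])
    rw [Nat.sub_self, mul_zero, pow_zero, one_mul] at h
    let φ : L →* MulAut (Multiplicative V) := MonoidHom.mk'
      (fun g =>
        { toFun := fun x => Multiplicative.ofAdd (ρ g x.toAdd)
          invFun := fun x => Multiplicative.ofAdd (ρ g⁻¹ x.toAdd)
          left_inv := fun x => congrArg Multiplicative.ofAdd (act_cancel ρ g x.toAdd)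
          right_inv := fun x => by
            have := act_cancel ρ g⁻¹ x.toAdd
            rw [inv_inv] at this
            exact congrArg Multiplicative.ofAdd this
          map_mul' := fun x y => congrArg Multiplicative.ofAdd (map_add (ρ g) x.toAdd y.toAdd) })
      fun a b => MulEquiv.ext fun x => congrArg Multiplicative.ofAdd (by
        show ρ (a * b) x.toAdd = ρ a (ρ b x.toAdd); rw [map_mul]; rfl)
    haveI : Finite (MulAut (Multiplicative V)) :=
      Finite.of_injective (fun f : MulAut (Multiplicative V) => (f : Multiplicative V → Multiplicative V))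
        DFunLike.coe_injective
    refine (Subgroup.card_dvd_of_injective φ fun a b hab => hρ ?_).trans h
    exact AddMonoidHom.ext fun x =>
      congrArg Multiplicative.toAdd (DFunLike.congr_fun hab (Multiplicative.ofAdd x))
  by_cases hn2 : n ≤ 2
  · haveI : Group.IsSolvable L := CfsgLib.FewOrders.isSolvable_of_two_primes Nat.prime_two Nat.prime_three
      fun t ht htd => by
        have h6 : t ∣ 6 := (htd.trans hcardL).trans (by interval_cases n <;> decide)
        have := Nat.le_of_dvd (by norm_num) h6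
        interval_cases t <;> first | omega | (norm_num at ht) | (norm_num at h6)
    exact Group.isSolvable_of_surjective (f := QuotientGroup.mk' H) (QuotientGroup.mk'_surjective H)
  push Not at hn2
  haveI : Nontrivial V := Finite.one_lt_card_iff_nontrivial.1 (by
    rw [hn]; exact Nat.one_lt_two_pow (by omega))
  -- the prime
  obtain ⟨r, a, hr, ha0, hra, hfull, hr6⟩ : ∃ r a : ℕ, r.Prime ∧ 0 < a ∧ r ^ a ∣ 2 ^ n - 1 ∧
      (∀ i, i ≤ n → r ^ a ∣ 2 ^ i - 1 → i = 0 ∨ i = n) ∧ (a = 1 ∨ (r = 3 ∧ a = 2 ∧ n = 6)) := by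
    by_cases h6 : n = 6
    · subst h6
      refine ⟨3, 2, by norm_num, by norm_num, by norm_num, fun i hi hd => ?_, Or.inr ⟨rfl, rfl, rfl⟩⟩
      interval_cases i <;> revert hd <;> norm_num
    · obtain ⟨r, hppd⟩ := CfsgLib.NumberTheory.exists_isPPD (a := 2) (n := n) (by norm_num) (by omega)
        (fun h => h6 h.2) (fun h => by omega)
      refine ⟨r, 1, hppd.prime, Nat.one_pos, by rw [pow_one]; exact hppd.2.1, fun i hi hd => ?_, Or.inl rfl⟩
      rw [pow_one] at hd
      by_contra hne
      push Not at hne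
      exact hppd.2.2 i (by omega) (by omega) hd
  haveI : Fact r.Prime := ⟨hr⟩
  obtain ⟨R0⟩ : Nonempty (Sylow r H) := inferInstance
  set R : Subgroup L := (R0 : Subgroup H).map H.subtype with hR
  have hRH : R ≤ H := Subgroup.map_subtype_le _
  have hRcard : Nat.card R = Nat.card (R0 : Subgroup H) :=
    (Nat.card_congr ((R0 : Subgroup H).equivMapOfInjective H.subtype H.subtype_injective).toEquiv).symm
  -- orbits
  have horb : ∀ v : V, v ≠ 0 → r ^ a ∣ ((stabSub ρ v).subgroupOf R).index := by
    intro v hv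
    have hidx : ((stabSub ρ v).subgroupOf H).index = 2 ^ n - 1 := by
      letI := nzAction ρ H ⊤ fun _ _ _ _ => AddSubgroup.mem_top _
      set w : {x : V // x ∈ (⊤ : AddSubgroup V) ∧ x ≠ 0} := ⟨v, AddSubgroup.mem_top v, hv⟩
      have he : (stabSub ρ v).subgroupOf H = MulAction.stabilizer H w := by
        ext g
        rw [Subgroup.mem_subgroupOf, MulAction.mem_stabilizer_iff, Subtype.ext_iff]
        exact Iff.rfl
      have horb' : MulAction.orbit H w = Set.univ := Set.eq_univ_of_forall fun x => by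
        obtain ⟨h, hh, hhv⟩ := htr v x.1 hv x.2.2
        exact ⟨⟨h, hh⟩, Subtype.ext hhv⟩
      rw [he, MulAction.index_stabilizer, horb', Set.ncard_univ, ← hn]
      letI := Fintype.ofFinite V
      rw [Nat.card_congr (Equiv.subtypeEquivRight (q := fun x : V => ¬ x = 0) fun x => by simp),
        Nat.card_eq_fintype_card, Fintype.card_subtype_compl, Fintype.card_subtype_eq,
        Nat.card_eq_fintype_card]
    set Rv := (stabSub ρ v).subgroupOf R
    set Hv := (stabSub ρ v).subgroupOf H
    have h1 : Nat.card Rv ∣ Nat.card Hv := by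
      let g : Rv →* Hv := MonoidHom.mk' (fun x => ⟨⟨(x.1 : L), hRH x.1.2⟩, x.2⟩) fun a b => rfl
      exact Subgroup.card_dvd_of_injective g fun a b h =>
        Subtype.ext (Subtype.ext (congrArg (fun t : Hv => ((t.1 : H) : L)) h))
    have h3 : r ^ a * Nat.card Rv ∣ Nat.card H := by
      rw [← Hv.card_mul_index, hidx, mul_comm (Nat.card Hv)]
      exact Nat.mul_dvd_mul hra h1
    obtain ⟨k, hk⟩ := IsPGroup.iff_card.1 ((R0.2.map H.subtype).to_subgroup Rv)
    have h4 : r ^ a * Nat.card Rv ∣ Nat.card R := by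
      rw [hk, ← pow_add] at h3
      rw [hk, ← pow_add, hRcard]
      exact R0.pow_dvd_card_of_pow_dvd_card h3
    rw [← Rv.card_mul_index, mul_comm (r ^ a)] at h4
    exact Nat.dvd_of_mul_dvd_mul_left Nat.card_pos h4
  have hRirr : Irr ρ R := irr_of_orbits ρ h2 hn R horb hfull
  have hRbig : r ^ a ∣ Nat.card R := by
    obtain ⟨v, hv⟩ := exists_ne (0 : V)
    exact (horb v hv).trans (Subgroup.index_dvd_card _)
  have hRp : IsPGroup r R := R0.2.map H.subtype
  -- cover
  suffices hN : Group.IsSolvable (Subgroup.normalizer (R : Set L)) by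
    refine Group.isSolvable_of_surjective
      (f := (QuotientGroup.mk' H).comp (Subgroup.normalizer (R : Set L)).subtype) fun q => ?_
    obtain ⟨g, rfl⟩ := QuotientGroup.mk'_surjective H q
    have hg : g ∈ Subgroup.normalizer (R : Set L) ⊔ H := by
      rw [hR, Sylow.normalizer_sup_eq_top R0]; exact Subgroup.mem_top g
    obtain ⟨y, hy, h, hh, rfl⟩ := Subgroup.mem_sup_of_normal_right.1 hg
    exact ⟨⟨y, hy⟩, by
      show QuotientGroup.mk' H y = QuotientGroup.mk' H (y * h)
      rw [map_mul, show QuotientGroup.mk' H h = 1 from (QuotientGroup.eq_one_iff h).2 hh, mul_one]⟩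
  by_cases hy : ∃ y ∈ R ⊓ Subgroup.centralizer (R : Set L), orderOf y = r ^ a
  · obtain ⟨y, hy, hord⟩ := hy
    refine solvable_normalizer_of_center ρ hρ (Y := Subgroup.zpowers y)
      (Subgroup.zpowers_le.2 hy) (irr_of_orbits ρ h2 hn _ (fun v hv => ?_) hfull)
    set T := (stabSub ρ v).subgroupOf (Subgroup.zpowers y)
    have hzc : Nat.card (Subgroup.zpowers y) = r ^ a := by rw [Nat.card_zpowers, hord]
    obtain ⟨j, hj, hjT⟩ := (Nat.dvd_prime_pow hr).1 (hzc ▸ T.index_dvd_card)
    by_contra hnd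
    have hja : j < a := lt_of_le_of_ne hj fun h => hnd (by rw [hjT, h])
    -- a central element fixing `v`
    have hzT : (⟨y ^ r ^ (a - 1), Subgroup.npow_mem_zpowers y _⟩ : Subgroup.zpowers y) ∈ T := by
      have h1 := T.pow_index_mem (⟨y, Subgroup.mem_zpowers y⟩ : Subgroup.zpowers y)
      obtain ⟨d, hd⟩ : r ^ j ∣ r ^ (a - 1) := pow_dvd_pow r (by omega)
      have h2 := T.pow_mem h1 d
      rw [← pow_mul, hjT, ← hd] at h2
      exact h2
    have hzv : ρ (y ^ r ^ (a - 1)) v = v := hzT
    set z := y ^ r ^ (a - 1) with hz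
    have hzC : z ∈ R ⊓ Subgroup.centralizer (R : Set L) := pow_mem hy _
    let A : AddSubgroup V :=
      { carrier := {x | ρ z x = x}
        add_mem' := fun {p q} (hp : ρ z p = p) (hq : ρ z q = q) => by
          show ρ z (p + q) = p + q; rw [map_add, hp, hq]
        zero_mem' := map_zero _
        neg_mem' := fun {p} (hp : ρ z p = p) => by show ρ z (-p) = -p; rw [map_neg, hp] }
    rcases hRirr A (fun g hg x (hx : ρ z x = x) => by
      show ρ z (ρ g x) = ρ g x
      show (ρ z * ρ g) x = ρ g x
      rw [← map_mul, ← Subgroup.mem_centralizer_iff.1 hzC.2 g hg, map_mul]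
      show ρ g (ρ z x) = ρ g x
      rw [hx]) with h | h
    · exact hv ((AddSubgroup.mem_bot).1 (h ▸ (hzv : v ∈ A)))
    · have hz1 : z = 1 := hρ (AddMonoidHom.ext fun x => by
        rw [map_one]
        exact (h ▸ AddSubgroup.mem_top x : x ∈ A))
      have := orderOf_dvd_of_pow_eq_one hz1
      rw [hord, Nat.pow_dvd_pow_iff_le_right hr.one_lt] at this
      omega
  push Not at hy
  haveI : Nontrivial R := Finite.one_lt_card_iff_nontrivial.1 (lt_of_lt_of_le
    (Nat.one_lt_pow ha0.ne' hr.one_lt) (Nat.le_of_dvd Nat.card_pos hRbig))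
  have hZR : ∀ x : Subgroup.center R, ((x.1 : L)) ∈ R ⊓ Subgroup.centralizer (R : Set L) := fun x =>
    ⟨x.1.2, Subgroup.mem_centralizer_iff.2 fun g hg =>
      congrArg Subtype.val (Subgroup.mem_center_iff.1 x.2 ⟨g, hg⟩)⟩
  rcases hr6 with rfl | ⟨rfl, rfl, rfl⟩
  · exfalso
    haveI := hRp.center_nontrivial
    obtain ⟨z, hz⟩ := exists_prime_orderOf_dvd_card' r
      ((hRp.to_subgroup (Subgroup.center R)).card_eq_or_dvd.resolve_left
        (fun h => (Finite.one_lt_card_iff_nontrivial.2 (inferInstance : Nontrivial (Subgroup.center R))).ne' h))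
    refine hy _ (hZR z) ?_
    rw [orderOf_submonoid, orderOf_submonoid, hz, pow_one]
  -- `n = 6`
  haveI := isCyclic_centralizer ρ hρ hRirr
  let ι : Subgroup.center R →* Subgroup.centralizer (R : Set L) :=
    MonoidHom.mk' (fun x => ⟨(x.1 : L), (hZR x).2⟩) fun a b => rfl
  haveI : IsCyclic (Subgroup.center R) := isCyclic_of_injective ι fun a b h =>
    Subtype.ext (Subtype.ext (congrArg (fun t : Subgroup.centralizer (R : Set L) => (t : L)) h))
  obtain ⟨g, hg⟩ := IsCyclic.exists_ofOrder_eq_natCard (α := Subgroup.center R)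
  obtain ⟨k, hk⟩ := IsPGroup.iff_card.1 (hRp.to_subgroup (Subgroup.center R))
  have hk1 : k ≤ 1 := by
    by_contra hk2
    push Not at hk2
    refine hy _ (pow_mem (hZR g) (3 ^ (k - 2))) ?_
    have ho : orderOf ((g.1 : L)) = 3 ^ k := by rw [orderOf_submonoid, orderOf_submonoid, hg, hk]
    rw [orderOf_pow_of_dvd (pow_ne_zero _ (by norm_num)) (by rw [ho]; exact pow_dvd_pow 3 (by omega)), ho,
      Nat.pow_div (by omega) (by norm_num)]
    congr 1
    omega
  have hZ3 : Nat.card (Subgroup.center R) ≤ 3 := by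
    rw [hk]
    calc 3 ^ k ≤ 3 ^ 1 := Nat.pow_le_pow_right (by norm_num) hk1
      _ = 3 := by norm_num
  obtain ⟨e, he⟩ := IsPGroup.iff_card.1 hRp
  have he4 : e ≤ 4 := by
    by_contra hh
    push Not at hh
    have h1 : 3 ^ 5 ∣ Nat.card L := ((pow_dvd_pow 3 hh).trans (he ▸ dvd_rfl)).trans R.card_subgroup_dvd_card
    have h2 := h1.trans hcardL
    norm_num [Finset.prod_range_succ] at h2
  obtain ⟨d, hd⟩ := hRp.index (frattini R)
  by_cases hd2 : d ≤ 2
  · refine solvable_normalizer ρ hρ hRirr ?_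
    haveI : Finite (MulAut R) := Finite.of_injective (fun f : MulAut R => (f : R → R)) DFunLike.coe_injective
    have h := CfsgLib.AutFrattini82.card_aut_dvd (r := d) he hd
    refine CfsgLib.FewOrders.isSolvable_of_two_primes Nat.prime_two Nat.prime_three fun t ht htd => ?_
    have htd' := htd.trans h
    rcases ht.dvd_mul.1 htd' with h3 | h3
    · exact Or.inr ((Nat.prime_dvd_prime_iff_eq ht (by norm_num)).1 (ht.dvd_of_dvd_pow h3))
    · have h6 : t ∣ 48 := h3.trans (by interval_cases d <;> decide)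
      have h48 : t ∣ 2 ^ 4 * 3 := by norm_num; exact h6
      rcases ht.dvd_mul.1 h48 with h | h
      · exact Or.inl ((Nat.prime_dvd_prime_iff_eq ht (by norm_num)).1 (ht.dvd_of_dvd_pow h))
      · exact Or.inr ((Nat.prime_dvd_prime_iff_eq ht (by norm_num)).1 h)
  exfalso
  push Not at hd2
  have h9 : 9 ≤ Nat.card R := Nat.le_of_dvd Nat.card_pos (by simpa using hRbig)
  have hna : Subgroup.center R ≠ ⊤ := fun h => by
    rw [h, Subgroup.card_top] at hZ3; omega
  have hΦ := CfsgLib.AutFrattini82.card_frattini he hd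
  have hde : d ≤ e := by
    have h := Subgroup.index_dvd_card (frattini R)
    rw [hd, he] at h
    exact (Nat.pow_dvd_pow_iff_le_right (by norm_num)).1 h
  have hed : e - d ≠ 0 := by
    intro h0
    rw [h0, pow_zero, Subgroup.card_eq_one] at hΦ
    refine hna ((commutator_eq_bot_iff_center_eq_top _).1 (le_bot_iff.1 ?_))
    exact hΦ ▸ CfsgLib.PGroup.commutator_le_frattini hRp
  have hΦ3 : Nat.card (frattini R) = 3 := by rw [hΦ, show e - d = 1 by omega, pow_one]
  have h81 : Nat.card R = 81 := by rw [he, show e = 4 by omega]; norm_num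
  have := nine_le_center h81 hΦ3
  omega

end CfsgLib.OutSylowTwo
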