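import Cfsg.Agent.Lib.OutSylowTwo.SqAut
import Cfsg.Agent.Lib.OutSylowTwo.TransNorm
import Cfsg.Agent.Lib.FTCons.OutSolvable
import Cfsg.Agent.Lib.PF.OddOrder

/-!
# Solvable outer automorphism groups from the Sylow 2-subgroup

A simple group of even order has solvable outer automorphism group when its Sylow 2-subgroup is
2-generated, or 3-generated with a normaliser inducing an automorphism of odd order, or has commuting
involutions forming one conjugacy class.
-/

set_option autoImplicit false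
set_option linter.unusedSectionVars false

namespace CfsgLib.OutSylowTwo

open Subgroup Pointwise

universe u

variable {G : Type u} [Group G] [Finite G]

/-- A subgroup `B` of automorphisms containing the Sylow stabiliser covers the outer group. -/
theorem solvable_out_of (S : Sylow 2 G) (B : Subgroup (MulAut G))
    (hAB : MulAction.stabilizer (MulAut G) S ≤ B)
    (hB : Group.IsSolvable (B ⧸ (Cfsg.Inn G).subgroupOf B)) : Group.IsSolvable (Cfsg.Out G) := by
  haveI : Fact (Nat.Prime 2) := ⟨Nat.prime_two⟩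
  haveI := hB
  refine Group.isSolvable_of_surjective
    (f := QuotientGroup.map ((Cfsg.Inn G).subgroupOf B) (Cfsg.Inn G) B.subtype (fun _ h => h)) ?_
  intro q
  obtain ⟨φ, rfl⟩ := QuotientGroup.mk'_surjective (Cfsg.Inn G) q
  obtain ⟨g, hg⟩ := MulAction.exists_smul_eq G S (φ • S)
  have hfix : (MulAut.conj g)⁻¹ * φ ∈ B := hAB (by
    rw [MulAction.mem_stabilizer_iff, mul_smul, ← hg]
    exact inv_smul_smul (MulAut.conj g) S)
  refine ⟨QuotientGroup.mk' _ (⟨_, hfix⟩ : B), ?_⟩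
  show (QuotientGroup.mk ((MulAut.conj g)⁻¹ * φ) : MulAut G ⧸ Cfsg.Inn G) = QuotientGroup.mk φ
  rw [QuotientGroup.eq]
  have h1 : ((MulAut.conj g)⁻¹ * φ)⁻¹ * φ = φ⁻¹ * MulAut.conj g * φ := by group
  rw [h1]
  have hn := (inferInstance : (Cfsg.Inn G).Normal).conj_mem _ (⟨g, rfl⟩ : MulAut.conj g ∈ Cfsg.Inn G) φ⁻¹
  rwa [inv_inv] at hn

/-- A solvable quotient and a solvable kernel. -/
theorem solvable_quot_of_hom {B Q K : Type u} [Group B] [Group Q] [Group K] (H : Subgroup B) [H.Normal]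
    (f : B →* Q) (hf : Function.Surjective f) [(H.map f).Normal] (hQ : Group.IsSolvable (Q ⧸ H.map f))
    (j : K →* B) (hK : Group.IsSolvable K) (hker : ∀ x ∈ f.ker, ∃ k : K, ∃ h ∈ H, j k = x * h) :
    Group.IsSolvable (B ⧸ H) := by
  haveI := hQ
  haveI := hK
  refine Group.isSolvable_of_ker_le_range ((QuotientGroup.mk' H).comp j)
    (QuotientGroup.map H (H.map f) f (Subgroup.le_comap_map f H)) ?_
  intro q hq
  obtain ⟨b, rfl⟩ := QuotientGroup.mk'_surjective H q
  have h1 : f b ∈ H.map f := (QuotientGroup.eq_one_iff (f b)).1 hq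
  obtain ⟨y, hy, hyb⟩ := h1
  obtain ⟨k, h, hh, hk⟩ := hker (b * y⁻¹) (by rw [MonoidHom.mem_ker, map_mul, map_inv, hyb, mul_inv_cancel])
  refine ⟨k, ?_⟩
  show QuotientGroup.mk' H (j k) = QuotientGroup.mk' H b
  rw [hk, map_mul, map_mul, show QuotientGroup.mk' H h = 1 from (QuotientGroup.eq_one_iff h).2 hh,
    show QuotientGroup.mk' H y⁻¹ = 1 from (QuotientGroup.eq_one_iff _).2 (inv_mem hy), mul_one, mul_one]

theorem no_odd_normal [IsSimpleGroup G] (S : Sylow 2 G) (hS1 : (S : Subgroup G) ≠ ⊥) :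
    ∀ N : Subgroup G, N.Normal → Odd (Nat.card N) → N = ⊥ := by
  haveI : Fact (Nat.Prime 2) := ⟨Nat.prime_two⟩
  intro N hN hodd
  refine (hN.eq_bot_or_eq_top).resolve_right fun h => ?_
  rw [h, Subgroup.card_top] at hodd
  obtain ⟨k, hk⟩ := IsPGroup.iff_card.1 S.2
  rcases Nat.eq_zero_or_pos k with rfl | hk0
  · exact hS1 (Subgroup.card_eq_one.1 (by simpa using hk))
  · have h2 : 2 ∣ Nat.card G :=
      ((dvd_pow_self 2 hk0.ne').trans (dvd_of_eq hk.symm)).trans (Subgroup.card_subgroup_dvd_card _)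
    exact Nat.not_even_iff_odd.2 hodd (even_iff_two_dvd.2 h2)

/-- The automorphisms centralising a Sylow 2-subgroup form a solvable group. -/
theorem solvable_ker_restrict [IsSimpleGroup G] (S : Sylow 2 G) (hS1 : (S : Subgroup G) ≠ ⊥) :
    Group.IsSolvable (FTCons.restrictSylow S).ker := by
  set res := FTCons.restrictSylow S with hres
  set C := res.ker.map (MulAction.stabilizer (MulAut G) S).subtype
  have hC : Group.IsSolvable C := by
    refine (FTCons.FixSylow.structure_of_fix CfsgLib.PF.oddSolvable (no_odd_normal S hS1) S C ?_).2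
    rintro _ ⟨φ, hφ, rfl⟩ s hs
    exact congrArg Subtype.val (DFunLike.congr_fun (MonoidHom.mem_ker.1 hφ : res φ = 1) ⟨s, hs⟩)
  haveI := hC
  exact Group.isSolvable_of_isSolvable_injective
    (f := ((MulAction.stabilizer (MulAut G) S).subtype.subgroupMap res.ker))
    fun a b h => by
      have h1 := congrArg Subtype.val h
      simp only [MonoidHom.subgroupMap_apply_coe, Subgroup.coe_subtype] at h1
      exact Subtype.ext (Subtype.ext h1)

theorem index_frattini_le {S : Type u} [Group S] [Finite S] (hS : IsPGroup 2 S) {k : ℕ} (s : Fin k → S)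
    (hs : Subgroup.closure (Set.range s) = ⊤) : (frattini S).index ≤ 2 ^ k := by
  classical
  haveI : Fact (Nat.Prime 2) := ⟨Nat.prime_two⟩
  set π := QuotientGroup.mk' (frattini S)
  have hcomm : ∀ a b : S ⧸ frattini S, a * b = b * a := by
    intro a b
    obtain ⟨x, rfl⟩ := QuotientGroup.mk'_surjective _ a
    obtain ⟨y, rfl⟩ := QuotientGroup.mk'_surjective _ b
    rw [← commutatorElement_eq_one_iff_mul_comm, ← map_commutatorElement]
    exact (QuotientGroup.eq_one_iff _).2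
      (CfsgLib.PGroup.commutator_le_frattini hS (commutator_mem_commutator (mem_top x) (mem_top y)))
  letI : CommGroup (S ⧸ frattini S) :=
    { (inferInstance : Group (S ⧸ frattini S)) with mul_comm := hcomm }
  have hsq : ∀ a : S ⧸ frattini S, a ^ 2 = 1 := by
    intro a
    obtain ⟨x, rfl⟩ := QuotientGroup.mk'_surjective _ a
    rw [← map_pow]
    exact (QuotientGroup.eq_one_iff _).2 (CfsgLib.PGroup.pow_mem_frattini hS x)
  let R : Subgroup (S ⧸ frattini S) :=
    { carrier := Set.range fun T : Finset (Fin k) => ∏ i ∈ T, π (s i)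
      one_mem' := ⟨∅, by simp⟩
      inv_mem' := fun {x} hx => by
        rw [show x⁻¹ = x from inv_eq_of_mul_eq_one_left (by rw [← pow_two]; exact hsq x)]
        exact hx
      mul_mem' := by
        rintro _ _ ⟨T, rfl⟩ ⟨T', rfl⟩
        refine ⟨symmDiff T T', ?_⟩
        have h1 : ∏ i ∈ T, π (s i) = (∏ i ∈ T \ T', π (s i)) * ∏ i ∈ T ∩ T', π (s i) := by
          rw [mul_comm]; exact (Finset.prod_inter_mul_prod_diff T T' _).symm
        have h2 : ∏ i ∈ T', π (s i) = (∏ i ∈ T' \ T, π (s i)) * ∏ i ∈ T ∩ T', π (s i) := by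
          rw [mul_comm, Finset.inter_comm]; exact (Finset.prod_inter_mul_prod_diff T' T _).symm
        show ∏ i ∈ symmDiff T T', π (s i) = (∏ i ∈ T, π (s i)) * ∏ i ∈ T', π (s i)
        rw [h1, h2, mul_mul_mul_comm, ← pow_two (∏ i ∈ T ∩ T', π (s i)), hsq, mul_one,
          ← Finset.prod_union disjoint_sdiff_sdiff]
        rfl }
  have hR : R = ⊤ := by
    rw [eq_top_iff, ← Subgroup.map_top_of_surjective π (QuotientGroup.mk'_surjective _), ← hs,
      MonoidHom.map_closure, Subgroup.closure_le]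
    rintro _ ⟨_, ⟨i, rfl⟩, rfl⟩
    exact ⟨{i}, by simp⟩
  rw [Subgroup.index_eq_card, ← Subgroup.card_top (G := S ⧸ frattini S), ← hR]
  calc Nat.card R ≤ Nat.card (Finset (Fin k)) :=
        Nat.card_le_card_of_surjective (fun T => (⟨_, T, rfl⟩ : R)) fun ⟨_, T, hT⟩ => ⟨T, Subtype.ext hT⟩
    _ = 2 ^ k := by simp

/-- The automorphism group of a 2-group with `k` generators. -/
theorem card_aut_dvd_of_gen {S : Type u} [Group S] [Finite S] (hS : IsPGroup 2 S) {k : ℕ} (s : Fin k → S)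
    (hs : Subgroup.closure (Set.range s) = ⊤) :
    ∃ m d : ℕ, d ≤ k ∧ Nat.card (MulAut S) ∣ 2 ^ m * ∏ i ∈ Finset.range d, (2 ^ d - 2 ^ i) := by
  haveI : Fact (Nat.Prime 2) := ⟨Nat.prime_two⟩
  obtain ⟨n, hn⟩ := IsPGroup.iff_card.1 hS
  obtain ⟨d, hd⟩ := hS.index (frattini S)
  refine ⟨_, d, ?_, CfsgLib.AutFrattini82.card_aut_dvd hn hd⟩
  have h := index_frattini_le hS s hs
  rw [hd] at h
  exact (Nat.pow_le_pow_iff_right (by norm_num)).1 h

variable [IsSimpleGroup G]

theorem out_two_gen (S : Sylow 2 G) (hS1 : (S : Subgroup G) ≠ ⊥)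
    (h : ∃ a b : ↥S, Subgroup.closure ({a, b} : Set ↥S) = ⊤) : Group.IsSolvable (Cfsg.Out G) := by
  obtain ⟨a, b, hab⟩ := h
  obtain ⟨m, d, hd, hdvd⟩ := card_aut_dvd_of_gen S.2 ![a, b] (by rw [Matrix.range_cons_cons_empty]; exact hab)
  refine FTCons.isSolvable_out CfsgLib.PF.oddSolvable S hS1 ?_
  haveI : Finite (MulAut ↥(S : Subgroup G)) :=
    Finite.of_injective (fun f : MulAut ↥(S : Subgroup G) => (f : ↥(S : Subgroup G) → ↥(S : Subgroup G)))
      DFunLike.coe_injective
  refine CfsgLib.FewOrders.isSolvable_of_two_primes Nat.prime_two Nat.prime_three fun t ht htd => ?_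
  rcases ht.dvd_mul.1 (htd.trans hdvd) with h | h
  · exact Or.inl ((Nat.prime_dvd_prime_iff_eq ht Nat.prime_two).1 (ht.dvd_of_dvd_pow h))
  · have h6 : t ∣ 2 * 3 := h.trans (by interval_cases d <;> decide)
    rcases ht.dvd_mul.1 h6 with h | h
    · exact Or.inl ((Nat.prime_dvd_prime_iff_eq ht Nat.prime_two).1 h)
    · exact Or.inr ((Nat.prime_dvd_prime_iff_eq ht Nat.prime_three).1 h)

theorem out_three_gen (S : Sylow 2 G) (hS1 : (S : Subgroup G) ≠ ⊥)
    (h : ∃ a b c : ↥S, Subgroup.closure ({a, b, c} : Set ↥S) = ⊤)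
    (hg : ∃ g ∈ Subgroup.normalizer ((S : Subgroup G) : Set G), Odd (orderOf g) ∧
      g ∉ Subgroup.centralizer ((S : Subgroup G) : Set G)) : Group.IsSolvable (Cfsg.Out G) := by
  classical
  haveI : Fact (Nat.Prime 2) := ⟨Nat.prime_two⟩
  obtain ⟨a, b, c, habc⟩ := h
  obtain ⟨g, hgN, hgodd, hgC⟩ := hg
  obtain ⟨m, d, hd, hdvd⟩ := card_aut_dvd_of_gen S.2 ![a, b, c] (by
    rw [show Set.range ![a, b, c] = {a, b, c} by
      ext x; simp only [Matrix.range_cons, Matrix.range_empty, Set.union_empty]; simp; tauto]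
    exact habc)
  haveI : Finite (MulAut G) := Finite.of_injective (fun f : MulAut G => (f : G → G)) DFunLike.coe_injective
  haveI : Finite (MulAut ↥(S : Subgroup G)) :=
    Finite.of_injective (fun f : MulAut ↥(S : Subgroup G) => (f : ↥(S : Subgroup G) → ↥(S : Subgroup G)))
      DFunLike.coe_injective
  set A := MulAction.stabilizer (MulAut G) S
  set res := FTCons.restrictSylow S
  refine solvable_out_of S A le_rfl ?_
  set I := (Cfsg.Inn G).subgroupOf A
  haveI : (I.map res.rangeRestrict).Normal :=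
    Subgroup.Normal.map inferInstance _ res.rangeRestrict_surjective
  refine solvable_quot_of_hom I res.rangeRestrict res.rangeRestrict_surjective ?_ res.ker.subtype
    (solvable_ker_restrict S hS1) fun x hx => ?_
  swap
  · refine ⟨⟨x, ?_⟩, 1, one_mem _, (mul_one x).symm⟩
    rw [← MonoidHom.ker_rangeRestrict]; exact hx
  set Im := I.map res.rangeRestrict
  have hA : MulAut.conj g ∈ A := by
    rw [MulAction.mem_stabilizer_iff]
    exact Sylow.smul_eq_iff_mem_normalizer.2 hgN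
  set x : res.range := res.rangeRestrict ⟨MulAut.conj g, hA⟩
  have hxI : x ∈ Im := ⟨_, ⟨g, rfl⟩, rfl⟩
  have hxodd : Odd (orderOf x) := hgodd.of_dvd_nat
    ((orderOf_map_dvd _ _).trans (by
      rw [← orderOf_submonoid]
      exact orderOf_map_dvd MulAut.conj g))
  have hx1 : orderOf x ≠ 1 := by
    rw [Ne, orderOf_eq_one_iff]
    intro h1
    refine hgC (Subgroup.mem_centralizer_iff.2 fun s hs => ?_)
    have h2 : g * s * g⁻¹ = s := by
      have h3 := congrArg (fun t : res.range => ((t.1 ⟨s, hs⟩ : ↥(S : Subgroup G)) : G)) h1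
      exact h3
    calc s * g = g * s * g⁻¹ * g := by rw [h2]
      _ = g * s := by group
  have hxdvd : orderOf x ∣ Nat.card Im := by
    rw [← Subgroup.orderOf_mk x hxI]; exact orderOf_dvd_natCard _
  have hcard : Nat.card Im * Nat.card (res.range ⧸ Im) ∣
      2 ^ m * ∏ i ∈ Finset.range d, (2 ^ d - 2 ^ i) := by
    rw [← Subgroup.index_eq_card, Subgroup.card_mul_index]
    exact res.range.card_subgroup_dvd_card.trans hdvd
  set Q := res.range ⧸ Im
  by_cases h7 : 7 ∣ Nat.card Q ∧ 3 ∣ Nat.card Q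
  · exfalso
    have h21 : 21 ∣ Nat.card Q := (Nat.Coprime.mul_dvd_of_dvd_of_dvd (by norm_num : Nat.Coprime 7 3) h7.1 h7.2)
    have h1 : orderOf x * 21 ∣ 2 ^ m * (8 * 21) :=
      ((Nat.mul_dvd_mul hxdvd h21).trans hcard).trans (Nat.mul_dvd_mul_left _ (by interval_cases d <;> decide))
    rw [← mul_assoc] at h1
    have h2 : orderOf x ∣ 2 ^ (m + 3) := by
      rw [pow_add]; exact Nat.dvd_of_mul_dvd_mul_right (by norm_num) h1
    exact hx1 (Nat.eq_one_of_dvd_coprimes ((Nat.coprime_two_right.2 hxodd).pow_right _) dvd_rfl h2)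
  · have key : ∀ t : ℕ, t.Prime → t ∣ Nat.card Q → t = 2 ∨ t = 3 ∨ t = 7 := fun t ht htd => by
      rcases ht.dvd_mul.1 (((htd.mul_left (Nat.card Im)).trans hcard)) with h | h
      · exact Or.inl ((Nat.prime_dvd_prime_iff_eq ht Nat.prime_two).1 (ht.dvd_of_dvd_pow h))
      · have h' : t ∣ 2 ^ 3 * 3 * 7 := h.trans (by interval_cases d <;> decide)
        rcases ht.dvd_mul.1 h' with h | h
        · rcases ht.dvd_mul.1 h with h | h
          · exact Or.inl ((Nat.prime_dvd_prime_iff_eq ht Nat.prime_two).1 (ht.dvd_of_dvd_pow h))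
          · exact Or.inr (Or.inl ((Nat.prime_dvd_prime_iff_eq ht Nat.prime_three).1 h))
        · exact Or.inr (Or.inr ((Nat.prime_dvd_prime_iff_eq ht (by norm_num)).1 h))
    by_cases h3 : 3 ∣ Nat.card Q
    · refine CfsgLib.FewOrders.isSolvable_of_two_primes Nat.prime_two Nat.prime_three fun t ht htd => ?_
      rcases key t ht htd with h | h | h
      · exact Or.inl h
      · exact Or.inr h
      · exact absurd ⟨h ▸ htd, h3⟩ h7
    · refine CfsgLib.FewOrders.isSolvable_of_two_primes Nat.prime_two (by norm_num : Nat.Prime 7)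
        fun t ht htd => ?_
      rcases key t ht htd with h | h | h
      · exact Or.inl h
      · exact absurd (h ▸ htd) h3
      · exact Or.inr h

theorem out_one_class (S : Sylow 2 G) (hS1 : (S : Subgroup G) ≠ ⊥)
    (hcomm : ∀ s ∈ S, ∀ t ∈ S, orderOf s = 2 → orderOf t = 2 → s * t = t * s)
    (hconj : ∀ s ∈ S, ∀ t ∈ S, orderOf s = 2 → orderOf t = 2 → ∃ g : G, g * s * g⁻¹ = t) :
    Group.IsSolvable (Cfsg.Out G) := by
  classical
  haveI : Fact (Nat.Prime 2) := ⟨Nat.prime_two⟩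
  haveI : Finite (MulAut G) := Finite.of_injective (fun f : MulAut G => (f : G → G)) DFunLike.coe_injective
  have hord : ∀ s : G, s * s = 1 → s ≠ 1 → orderOf s = 2 := fun s h1 h2 =>
    orderOf_eq_prime (by rw [pow_two]; exact h1) h2
  have hcomm' : ∀ s ∈ S, ∀ t ∈ S, s * s = 1 → t * t = 1 → s * t = t * s := by
    intro s hs t ht hss htt
    by_cases h1 : s = 1
    · rw [h1, one_mul, mul_one]
    by_cases h2 : t = 1
    · rw [h2, one_mul, mul_one]
    exact hcomm s hs t ht (hord s hss h1) (hord t htt h2)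
  let E : Subgroup G :=
    { carrier := {x | x ∈ S ∧ x * x = 1}
      one_mem' := ⟨one_mem _, one_mul 1⟩
      inv_mem' := fun {x} ⟨h1, h2⟩ => ⟨inv_mem h1, by rw [← mul_inv_rev, h2, inv_one]⟩
      mul_mem' := fun {x y} ⟨hx, hx2⟩ ⟨hy, hy2⟩ => ⟨mul_mem hx hy, by
        rw [mul_assoc, ← mul_assoc y, ← hcomm' x hx y hy hx2 hy2, mul_assoc x, hy2, mul_one, hx2]⟩ }
  -- automorphisms fixing `E`
  let B : Subgroup (MulAut G) :=
    { carrier := {φ | E.map φ.toMonoidHom = E}
      one_mem' := by show E.map (MonoidHom.id G) = E; exact Subgroup.map_id E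
      mul_mem' := fun {p q} (hp : E.map p.toMonoidHom = E) (hq : E.map q.toMonoidHom = E) => by
        show E.map (p * q).toMonoidHom = E
        rw [show (p * q).toMonoidHom = p.toMonoidHom.comp q.toMonoidHom from rfl, ← Subgroup.map_map, hq, hp]
      inv_mem' := fun {p} (hp : E.map p.toMonoidHom = E) => by
        show E.map p⁻¹.toMonoidHom = E
        conv_lhs => rw [← hp]
        rw [Subgroup.map_map, show p⁻¹.toMonoidHom.comp p.toMonoidHom = MonoidHom.id G from
          MonoidHom.ext fun x => MulAut.inv_apply_self G p x, Subgroup.map_id] }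
  have hBmem : ∀ φ : B, ∀ x ∈ E, (φ : MulAut G) x ∈ E := fun φ x hx => φ.2.le ⟨x, hx, rfl⟩
  have hAB : MulAction.stabilizer (MulAut G) S ≤ B := by
    intro φ hφ
    show E.map φ.toMonoidHom = E
    have hle : E.map φ.toMonoidHom ≤ E := by
      rintro _ ⟨x, hx, rfl⟩
      refine ⟨?_, by show φ x * φ x = 1; rw [← map_mul, hx.2, map_one]⟩
      have h1 := congrArg (fun T : Sylow 2 G => (T : Subgroup G)) (MulAction.mem_stabilizer_iff.1 hφ)
      have h2 : φ • x ∈ ((φ • S : Sylow 2 G) : Subgroup G) := Subgroup.smul_mem_pointwise_smul x φ _ hx.1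
      rw [MulAction.mem_stabilizer_iff.1 hφ] at h2
      exact h2
    exact Subgroup.eq_of_le_of_card_ge hle (by rw [Subgroup.card_map_of_injective φ.injective])
  refine solvable_out_of S B hAB ?_
  set H0 := (Cfsg.Inn G).subgroupOf B
  letI : CommGroup E :=
    { (inferInstance : Group E) with
      mul_comm := fun a b => Subtype.ext (hcomm' _ a.2.1 _ b.2.1 a.2.2 b.2.2) }
  let ρ : B →* AddMonoid.End (Additive E) :=
    { toFun := fun φ => (MonoidHom.mk' (fun x : E => (⟨φ.1 x, hBmem φ x x.2⟩ : E))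
        fun a b => Subtype.ext (map_mul φ.1 _ _)).toAdditive
      map_one' := rfl
      map_mul' := fun a b => rfl }
  have hker : ∀ φ : B, φ ∈ ρ.ker ↔ ∀ x ∈ E, φ.1 x = x := fun φ => by
    rw [MonoidHom.mem_ker]
    refine ⟨fun h x hx => ?_, fun h => AddMonoidHom.ext fun x => ?_⟩
    · exact congrArg (fun t : Additive E => ((Additive.toMul t : E) : G))
        (DFunLike.congr_fun h (Additive.ofMul (⟨x, hx⟩ : E)))
    · exact congrArg Additive.ofMul (Subtype.ext (h _ x.toMul.2) :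
        (⟨φ.1 x.toMul, hBmem φ _ x.toMul.2⟩ : E) = x.toMul)
  set π := QuotientGroup.mk' ρ.ker
  haveI : (H0.map π).Normal := Subgroup.Normal.map inferInstance _ (QuotientGroup.mk'_surjective _)
  -- transitivity
  have hEp : ∀ (x : G) (K : Subgroup G), K ≤ ((x • S : Sylow 2 G) : Subgroup G) → ∀ y ∈ K, y * y = 1 →
      y ∈ E.map (MulAut.conj x).toMonoidHom := by
    intro x K hK y hy hy2
    have h1 : y ∈ MulAut.conj x • (S : Subgroup G) := hK hy
    obtain ⟨z, hz, rfl⟩ := h1
    refine ⟨z, ⟨hz, ?_⟩, rfl⟩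
    have h2 : (MulAut.conj x) (z * z) = 1 := by rw [map_mul]; exact hy2
    exact (MulEquiv.map_eq_one_iff _).1 h2
  have htr : ∀ v w : Additive E, v ≠ 0 → w ≠ 0 → ∃ q ∈ H0.map π,
      (QuotientGroup.lift ρ.ker ρ le_rfl) q v = w := by
    intro v w hv hw
    obtain ⟨e, rfl⟩ := Additive.ofMul.surjective v
    obtain ⟨f, rfl⟩ := Additive.ofMul.surjective w
    have he1 : (e : G) ≠ 1 := fun h => hv (congrArg Additive.ofMul (Subtype.ext h : e = 1))
    have hf1 : (f : G) ≠ 1 := fun h => hw (congrArg Additive.ofMul (Subtype.ext h : f = 1))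
    obtain ⟨g, hg⟩ := hconj _ e.2.1 _ f.2.1 (hord _ e.2.2 he1) (hord _ f.2.2 hf1)
    set X := Subgroup.centralizer ({(f : G)} : Set G)
    have hE2 : IsPGroup 2 E := S.2.to_le fun x hx => hx.1
    have hEX : E ≤ X := fun x hx => Subgroup.mem_centralizer_singleton_iff.2
      (hcomm' _ hx.1 _ f.2.1 hx.2 f.2.2)
    have hgX : E.map (MulAut.conj g).toMonoidHom ≤ X := by
      rintro _ ⟨x, hx, rfl⟩
      refine Subgroup.mem_centralizer_singleton_iff.2 ?_
      show g * x * g⁻¹ * f = f * (g * x * g⁻¹)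
      rw [← hg]
      calc g * x * g⁻¹ * (g * e * g⁻¹) = g * (x * e) * g⁻¹ := by group
        _ = g * ((e : G) * x) * g⁻¹ := by rw [hcomm' _ hx.1 _ e.2.1 hx.2 e.2.2]
        _ = _ := by group
    obtain ⟨P, hP⟩ := (hE2.comap_of_injective X.subtype X.subtype_injective).exists_le_sylow
    obtain ⟨P', hP'⟩ :=
      ((hE2.map (MulAut.conj g).toMonoidHom).comap_of_injective X.subtype X.subtype_injective).exists_le_sylow
    obtain ⟨c, hc⟩ := MulAction.exists_smul_eq X P' P
    set h := (c : G) * g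
    obtain ⟨T, hT⟩ := (P.2.map X.subtype).exists_le_sylow
    obtain ⟨x, rfl⟩ := MulAction.exists_smul_eq G S T
    have hmapE : E.map (MulAut.conj h).toMonoidHom ≤ (P : Subgroup X).map X.subtype := by
      rintro _ ⟨y, hy, rfl⟩
      have h1 : (⟨g * y * g⁻¹, hgX ⟨y, hy, rfl⟩⟩ : X) ∈ (P' : Subgroup X) := hP' ⟨y, hy, rfl⟩
      refine ⟨c * ⟨g * y * g⁻¹, hgX ⟨y, hy, rfl⟩⟩ * c⁻¹, ?_, ?_⟩
      · rw [← hc]
        exact Subgroup.smul_mem_pointwise_smul _ (MulAut.conj c) _ h1
      · show (c : G) * (g * y * g⁻¹) * (c : G)⁻¹ = (c : G) * g * y * ((c : G) * g)⁻¹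
        group
    have hPE : E ≤ (P : Subgroup X).map X.subtype := fun y hy => ⟨⟨y, hEX hy⟩, hP hy, rfl⟩
    have hsq2 : ∀ K : Subgroup G, K ≤ ((x • S : Sylow 2 G) : Subgroup G) → (∀ y ∈ K, y * y = 1) →
        Nat.card E ≤ Nat.card K → K = E.map (MulAut.conj x).toMonoidHom := fun K hK hK2 hc =>
      Subgroup.eq_of_le_of_card_ge (fun y hy => hEp x K hK y hy (hK2 y hy))
        (by rw [Subgroup.card_map_of_injective (MulAut.conj x).injective]; exact hc)
    have hEx : E = E.map (MulAut.conj x).toMonoidHom := hsq2 E (hPE.trans hT) (fun y hy => hy.2) le_rfl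
    have hEh : E.map (MulAut.conj h).toMonoidHom = E := by
      refine (hsq2 _ (hmapE.trans hT) ?_ ?_).trans hEx.symm
      · rintro _ ⟨y, hy, rfl⟩
        rw [← map_mul, hy.2, map_one]
      · rw [Subgroup.card_map_of_injective (MulAut.conj h).injective]
    refine ⟨π ⟨MulAut.conj h, hEh⟩, ⟨_, ⟨h, rfl⟩, rfl⟩, ?_⟩
    refine congrArg Additive.ofMul (Subtype.ext ?_)
    show h * (e : G) * h⁻¹ = f
    have hcf : (c : G) * f = f * c := Subgroup.mem_centralizer_singleton_iff.1 c.2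
    calc h * (e : G) * h⁻¹ = (c : G) * (g * e * g⁻¹) * (c : G)⁻¹ := by simp only [h]; group
      _ = f := by rw [hg, hcf, mul_inv_cancel_right]
  have h2E : ∀ v : Additive E, v + v = 0 := fun v => by
    obtain ⟨e, rfl⟩ := Additive.ofMul.surjective v
    exact congrArg Additive.ofMul (Subtype.ext e.2.2 : e * e = 1)
  have hquot := solvable_quot_of_transitive (QuotientGroup.lift ρ.ker ρ le_rfl)
    ((MonoidHom.ker_eq_bot_iff _).1 ((eq_bot_iff).2 fun q hq => by
      obtain ⟨b, rfl⟩ := QuotientGroup.mk'_surjective _ q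
      exact Subgroup.mem_bot.2 ((QuotientGroup.eq_one_iff b).2 hq))) h2E (H0.map π) htr
  -- the kernel
  set res := FTCons.restrictSylow S
  let KA : Subgroup (MulAction.stabilizer (MulAut G) S) :=
    ρ.ker.comap (Subgroup.inclusion hAB)
  have hKA : Group.IsSolvable KA := by
    let r : KA →* fixInv ↥(S : Subgroup G) := MonoidHom.mk'
      (fun φ => ⟨res φ.1, fun y hy => Subtype.ext ((hker _).1 φ.2 _
        ⟨y.2, congrArg Subtype.val hy⟩)⟩) fun a b => Subtype.ext (map_mul res a.1 b.1)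
    haveI : Group.IsSolvable (fixInv ↥(S : Subgroup G)) := isSolvable_fixInv S.2 fun x y hx hy =>
      Subtype.ext (hcomm' _ x.2 _ y.2 (congrArg Subtype.val hx) (congrArg Subtype.val hy))
    haveI := solvable_ker_restrict S hS1
    haveI : Group.IsSolvable r.ker := by
      refine Group.isSolvable_of_isSolvable_injective
        (f := MonoidHom.mk' (fun k : r.ker => (⟨k.1.1, congrArg Subtype.val (MonoidHom.mem_ker.1 k.2)⟩ :
          res.ker)) fun a b => rfl) fun a b h => ?_
      exact Subtype.ext (Subtype.ext (congrArg (fun t : res.ker => (t : MulAction.stabilizer (MulAut G) S)) h))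
    exact Group.isSolvable_of_ker_le_range r.ker.subtype r r.ker.range_subtype.ge
  refine solvable_quot_of_hom H0 π (QuotientGroup.mk'_surjective _) hquot
    ((Subgroup.inclusion hAB).comp KA.subtype) hKA fun φ hφ => ?_
  rw [QuotientGroup.ker_mk'] at hφ
  have hfix := (hker φ).1 hφ
  -- `S` and its image lie in `S C(E)`
  have hnorm : ∀ s ∈ S, ∀ y ∈ E, s * y * s⁻¹ ∈ E := fun s hs y hy =>
    ⟨mul_mem (mul_mem hs hy.1) (inv_mem hs), by
      calc s * y * s⁻¹ * (s * y * s⁻¹) = s * (y * y) * s⁻¹ := by group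
        _ = 1 := by rw [hy.2, mul_one, mul_inv_cancel]⟩
  have hCE : ∀ s ∈ S, ∀ z ∈ Subgroup.centralizer (E : Set G),
      s * z * s⁻¹ ∈ Subgroup.centralizer (E : Set G) := fun s hs z hz =>
    Subgroup.mem_centralizer_iff.2 fun y hy => by
      have h1 := Subgroup.mem_centralizer_iff.1 hz _ (hnorm s⁻¹ (inv_mem hs) y hy)
      calc y * (s * z * s⁻¹) = s * ((s⁻¹ * y * s⁻¹⁻¹) * z) * s⁻¹ := by group
        _ = s * (z * (s⁻¹ * y * s⁻¹⁻¹)) * s⁻¹ := by rw [h1]
        _ = s * z * s⁻¹ * y := by group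
  let M : Subgroup G :=
    { carrier := {m | ∃ s ∈ S, ∃ z ∈ Subgroup.centralizer (E : Set G), m = s * z}
      one_mem' := ⟨1, one_mem _, 1, one_mem _, (mul_one 1).symm⟩
      mul_mem' := by
        rintro _ _ ⟨s, hs, z, hz, rfl⟩ ⟨t, ht, y, hy, rfl⟩
        exact ⟨s * t, mul_mem hs ht, t⁻¹ * z * t⁻¹⁻¹ * y,
          mul_mem (hCE _ (inv_mem ht) _ hz) hy, by group⟩
      inv_mem' := by
        rintro _ ⟨s, hs, z, hz, rfl⟩
        exact ⟨s⁻¹, inv_mem hs, s * z⁻¹ * s⁻¹, hCE _ hs _ (inv_mem hz), by group⟩ }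
  have hSM : (S : Subgroup G) ≤ M := fun s hs => ⟨s, hs, 1, one_mem _, (mul_one s).symm⟩
  have hφM : ((φ.1 • S : Sylow 2 G) : Subgroup G) ≤ M := by
    rintro _ ⟨s, hs, rfl⟩
    show φ.1 s ∈ M
    refine ⟨s, hs, s⁻¹ * φ.1 s, Subgroup.mem_centralizer_iff.2 fun y hy => ?_, by group⟩
    have h2 := hfix _ (hnorm s hs y hy)
    rw [map_mul, map_mul, map_inv, hfix y hy] at h2
    calc y * (s⁻¹ * φ.1 s) = s⁻¹ * (s * y * s⁻¹) * φ.1 s := by group
      _ = s⁻¹ * (φ.1 s * y * (φ.1 s)⁻¹) * φ.1 s := by rw [h2]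
      _ = s⁻¹ * φ.1 s * y := by group
  obtain ⟨m, hm⟩ := MulAction.exists_smul_eq M ((φ.1 • S).subtype hφM) (S.subtype hSM)
  obtain ⟨s, hs, z, hz, hmz⟩ := m.2
  have hmS : (m : G) • (φ.1 • S) = S := by
    rw [Sylow.smul_subtype] at hm
    exact Sylow.subtype_injective hm
  have hzS : MulAut.conj z * φ.1 ∈ MulAction.stabilizer (MulAut G) S := by
    rw [MulAction.mem_stabilizer_iff, mul_smul]
    have h1 : z • (φ.1 • S) = s⁻¹ • S := by
      conv_rhs => rw [← hmS]
      rw [hmz, mul_smul, inv_smul_smul]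
    exact h1.trans (Sylow.smul_eq_iff_mem_normalizer.2 (Subgroup.le_normalizer (inv_mem hs)))
  have hzB : MulAut.conj z ∈ B := by
    show E.map (MulAut.conj z).toMonoidHom = E
    have hle : E.map (MulAut.conj z).toMonoidHom ≤ E := by
      rintro _ ⟨y, hy, rfl⟩
      show z * y * z⁻¹ ∈ E
      rw [← Subgroup.mem_centralizer_iff.1 hz y hy, mul_inv_cancel_right]
      exact hy
    exact Subgroup.eq_of_le_of_card_ge hle (by rw [Subgroup.card_map_of_injective (MulAut.conj z).injective])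
  refine ⟨⟨⟨_, hzS⟩, ?_⟩, φ⁻¹ * ⟨_, hzB⟩ * φ, ?_, Subtype.ext ?_⟩
  · refine (hker _).2 fun y hy => ?_
    show z * φ.1 y * z⁻¹ = y
    rw [hfix y hy, ← Subgroup.mem_centralizer_iff.1 hz y hy, mul_inv_cancel_right]
  · have h1 : (⟨_, hzB⟩ : B) ∈ H0 := ⟨z, rfl⟩
    have h2 := (inferInstance : H0.Normal).conj_mem _ h1 φ⁻¹
    rwa [inv_inv] at h2
  · show MulAut.conj z * φ.1 = φ.1 * (φ.1⁻¹ * MulAut.conj z * φ.1)
    group

end CfsgLib.OutSylowTwo
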