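import Mathlib

/-!
# Functionals with values in `ZMod 2` on a finite group of exponent two
-/

set_option autoImplicit false

namespace CfsgLib.OutSylowTwo

universe u

variable {A : Type u} [AddCommGroup A] [Finite A]

/-- A finite group of exponent two has as many functionals as elements. -/
theorem card_hom_two (h2 : ∀ a : A, a + a = 0) : Nat.card (A →+ ZMod 2) = Nat.card A := by
  letI : Module (ZMod 2) A :=
    AddCommGroup.zmodModule (n := 2) (G := A) fun x => by rw [two_nsmul]; exact h2 x
  have e : Nat.card (A →+ ZMod 2) = Nat.card (Module.Dual (ZMod 2) A) :=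
    Nat.card_congr
      { toFun := fun f => f.toZModLinearMap 2
        invFun := fun f => f.toAddMonoidHom
        left_inv := fun f => rfl
        right_inv := fun f => rfl }
  rw [e, Module.natCard_eq_pow_finrank (K := ZMod 2) (V := Module.Dual (ZMod 2) A),
    Subspace.dual_finrank_eq, ← Module.natCard_eq_pow_finrank]

/-- Functionals separate the points outside a subgroup. -/
theorem exists_hom_two (h2 : ∀ a : A, a + a = 0) (B : AddSubgroup A) {x : A} (hx : x ∉ B) :
    ∃ f : A →+ ZMod 2, (∀ b ∈ B, f b = 0) ∧ f x = 1 := by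
  letI : Module (ZMod 2) A :=
    AddCommGroup.zmodModule (n := 2) (G := A) fun x => by rw [two_nsmul]; exact h2 x
  obtain ⟨f, hf1, hf2⟩ :=
    Submodule.exists_dual_map_eq_bot_of_notMem (p := AddSubgroup.toZModSubmodule 2 B) hx inferInstance
  refine ⟨f.toAddMonoidHom, fun b hb => ?_, ?_⟩
  · have h : f b ∈ (AddSubgroup.toZModSubmodule 2 B).map f := ⟨b, hb, rfl⟩
    rw [hf2] at h
    exact h
  · have h : ∀ t : ZMod 2, t ≠ 0 → t = 1 := by decide
    exact h _ hf1

/-- The functionals killing a subgroup are at most as many as its cosets. -/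
theorem card_killers_le (h2 : ∀ a : A, a + a = 0) (B : AddSubgroup A) :
    Nat.card {f : A →+ ZMod 2 // ∀ b ∈ B, f b = 0} ≤ B.index := by
  have hq : ∀ a : A ⧸ B, a + a = 0 := fun a => by
    obtain ⟨a, rfl⟩ := QuotientAddGroup.mk'_surjective B a
    rw [← map_add, h2, map_zero]
  rw [AddSubgroup.index, ← card_hom_two hq]
  haveI : Finite ((A ⧸ B) →+ ZMod 2) :=
    Finite.of_injective (fun f => (f : A ⧸ B → ZMod 2)) DFunLike.coe_injective
  refine Nat.card_le_card_of_injective
    (fun f => QuotientAddGroup.lift B f.1 (fun b hb => f.2 b hb)) ?_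
  intro f g h
  refine Subtype.ext (AddMonoidHom.ext fun a => ?_)
  have := DFunLike.congr_fun h (a : A ⧸ B)
  simp only [QuotientAddGroup.lift_mk] at this
  exact this

end CfsgLib.OutSylowTwo
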