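import Cfsg.Agent.Lib.OutSylowTwo.Dual

/-!
# Automorphisms of an anisotropic quadratic map

A finite group preserving a quadratic map `q : V → X` between elementary abelian 2-groups which
vanishes only at zero is solvable. On an irreducible module the character sum of `q` shows that
every involution has its commutator equal to its fixed space, which leaves no room for a subgroup
of order four.
-/

set_option autoImplicit false
set_option linter.unusedSectionVars false

namespace CfsgLib.OutSylowTwo

open scoped BigOperators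

universe u

/-- The sign of a residue modulo two. -/
def sgn (t : ZMod 2) : ℤ := if t = 0 then 1 else -1

theorem sgn_add (a b : ZMod 2) : sgn (a + b) = sgn a * sgn b := by revert a b; decide

theorem sgn_one_add (t : ZMod 2) : sgn (1 + t) = -sgn t := by revert t; decide

theorem endMul {V : Type u} [AddCommGroup V] (f g : AddMonoid.End V) (x : V) :
    (f * g) x = f (g x) := rfl

/-- The polar map of a quadratic map in characteristic two. -/
def polar {V X : Type u} [AddCommGroup V] [AddCommGroup X] (q : V → X) (x y : V) : X :=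
  q (x + y) + q x + q y

/-- An invariant anisotropic quadratic map. -/
structure Aniso {V X : Type u} [AddCommGroup V] [AddCommGroup X] {D : Type u} [Group D]
    (ρ : D →* AddMonoid.End V) (q : V → X) : Prop where
  two : ∀ x : V, x + x = 0
  two' : ∀ e : X, e + e = 0
  add_left : ∀ x y z, polar q (x + y) z = polar q x z + polar q y z
  invar : ∀ d x, q (ρ d x) = q x
  aniso : ∀ x, q x = 0 → x = 0

section Basic

variable {V X : Type u} [AddCommGroup V] [AddCommGroup X] {D : Type u} [Group D]
  {ρ : D →* AddMonoid.End V} {q : V → X}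

theorem polar_comm (x y : V) : polar q x y = polar q y x := by
  unfold polar
  rw [add_comm x y]
  abel

namespace Aniso

variable (h : Aniso ρ q)
include h

theorem add_right (x y z : V) : polar q x (y + z) = polar q x y + polar q x z := by
  rw [polar_comm, h.add_left, polar_comm y, polar_comm z]

theorem polar_zero (x : V) : polar q x 0 = 0 := by
  have := h.add_right x 0 0
  rw [add_zero] at this
  exact left_eq_add.mp this

theorem map_zero : q 0 = 0 := by
  have h1 := h.polar_zero 0
  unfold polar at h1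
  rw [add_zero, h.two', zero_add] at h1
  exact h1

theorem polar_self (x : V) : polar q x x = 0 := by
  unfold polar
  rw [h.two, h.map_zero, zero_add, h.two']

theorem q_add (x y : V) : q (x + y) = q x + q y + polar q x y := by
  unfold polar
  have h1 : q x + q y + (q (x + y) + q x + q y) = q (x + y) + ((q x + q x) + (q y + q y)) := by abel
  rw [h1, h.two', h.two', add_zero, add_zero]

theorem polar_map (d : D) (x y : V) : polar q (ρ d x) (ρ d y) = polar q x y := by
  unfold polar
  rw [← _root_.map_add, h.invar, h.invar, h.invar]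

theorem act_inv (d : D) (x : V) : ρ d⁻¹ (ρ d x) = x := by
  rw [← endMul, ← map_mul, inv_mul_cancel, map_one]; rfl

theorem eq_of_add (x y : V) (hxy : x + y = 0) : x = y :=
  calc x = x + (y + y) := by rw [h.two, add_zero]
    _ = (x + y) + y := by rw [add_assoc]
    _ = y := by rw [hxy, zero_add]

end Aniso

/-- The points fixed by one element. -/
def fixOf (ρ : D →* AddMonoid.End V) (u : D) : AddSubgroup V where
  carrier := {x | ρ u x = x}
  add_mem' := fun {a b} (ha : ρ u a = a) (hb : ρ u b = b) => by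
    show ρ u (a + b) = a + b
    rw [map_add, ha, hb]
  zero_mem' := map_zero _
  neg_mem' := fun {a} (ha : ρ u a = a) => by
    show ρ u (-a) = -a
    rw [map_neg, ha]

theorem mem_fixOf {u : D} {x : V} : x ∈ fixOf ρ u ↔ ρ u x = x := Iff.rfl

/-- The map `x ↦ x + u x`. -/
def diffOf (ρ : D →* AddMonoid.End V) (u : D) : V →+ V where
  toFun x := x + ρ u x
  map_zero' := by simp
  map_add' x y := by rw [map_add]; abel

@[simp] theorem diffOf_apply (u : D) (x : V) : diffOf ρ u x = x + ρ u x := rfl

theorem ker_diffOf (h : Aniso ρ q) (u : D) : (diffOf ρ u).ker = fixOf ρ u := by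
  ext x
  rw [AddMonoidHom.mem_ker, diffOf_apply, mem_fixOf]
  exact ⟨fun hx => (h.eq_of_add _ _ hx).symm, fun hx => by rw [hx, h.two]⟩

end Basic

section Core

variable {V X : Type u} [AddCommGroup V] [Finite V] [AddCommGroup X] [Finite X] {D : Type u}
  [Group D] {ρ : D →* AddMonoid.End V} {q : V → X}

/-- Irreducible, nontrivial and with spanning values. -/
structure IsCore (ρ : D →* AddMonoid.End V) (q : V → X) : Prop where
  toAniso : Aniso ρ q
  faithful : ∀ d : D, (∀ x, ρ d x = x) → d = 1
  nontriv : ∃ (d : D) (x : V), ρ d x ≠ x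
  irred : ∀ A : AddSubgroup V, (∀ d : D, ∀ x ∈ A, ρ d x ∈ A) → A = ⊥ ∨ A = ⊤
  span : AddSubgroup.closure (Set.range q) = ⊤

namespace IsCore

variable (c : IsCore ρ q)
include c

theorem nondeg {l : X →+ ZMod 2} (hl : l ≠ 0) {x : V} (hx : x ≠ 0) :
    ∃ y, l (polar q x y) ≠ 0 := by
  by_contra hne
  push Not at hne
  let A : AddSubgroup V :=
    { carrier := {z | ∀ y, l (polar q z y) = 0}
      add_mem' := fun {a b} ha hb y => by rw [c.toAniso.add_left, map_add, ha y, hb y, add_zero]
      zero_mem' := fun y => by rw [polar_comm, c.toAniso.polar_zero, map_zero]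
      neg_mem' := fun {a} ha y => by
        rw [show -a = a from (c.toAniso.eq_of_add _ _ (add_neg_cancel a)).symm]; exact ha y }
  have hA : A = ⊤ := by
    refine (c.irred A fun d z hz y => ?_).resolve_left fun hb => hx ?_
    · have h1 : ρ d (ρ d⁻¹ y) = y := by
        simpa using c.toAniso.act_inv d⁻¹ y
      rw [← h1, c.toAniso.polar_map]
      exact hz _
    · exact (AddSubgroup.mem_bot).1 (hb ▸ (show x ∈ A from hne))
  let Q : V →+ ZMod 2 :=
    { toFun := fun z => l (q z)
      map_zero' := by rw [c.toAniso.map_zero, map_zero]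
      map_add' := fun a b => by
        have hab : a ∈ A := hA ▸ AddSubgroup.mem_top a
        rw [c.toAniso.q_add, map_add, map_add, hab b, add_zero] }
  have hQ : Q.ker = ⊤ := by
    refine (c.irred Q.ker fun d z hz => ?_).resolve_left fun hb => ?_
    · rw [AddMonoidHom.mem_ker] at hz ⊢
      show l (q (ρ d z)) = 0
      rw [c.toAniso.invar]; exact hz
    · obtain ⟨d, z, hdz⟩ := c.nontriv
      have h1 : z + ρ d z ∈ Q.ker := by
        rw [AddMonoidHom.mem_ker, map_add]
        show l (q z) + l (q (ρ d z)) = 0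
        rw [c.toAniso.invar]
        exact CharTwo.add_self_eq_zero _
      rw [hb, AddSubgroup.mem_bot] at h1
      exact hdz (c.toAniso.eq_of_add _ _ h1).symm
  refine hl (AddMonoidHom.eq_of_eqOn_dense (f := l) (g := 0) c.span ?_)
  rintro _ ⟨z, rfl⟩
  have hz : z ∈ Q.ker := by rw [hQ]; exact AddSubgroup.mem_top z
  exact AddMonoidHom.mem_ker.1 hz

/-- `|V| ≤ |X^*|²`. -/
theorem card_le_sq :
    Nat.card V ≤ Nat.card (X →+ ZMod 2) * Nat.card (X →+ ZMod 2) := by
  classical
  haveI : Finite (X →+ ZMod 2) := Finite.of_injective (fun f => (f : X → ZMod 2)) DFunLike.coe_injective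
  letI := Fintype.ofFinite V
  letI := Fintype.ofFinite (X →+ ZMod 2)
  let S : (X →+ ZMod 2) → ℤ := fun l => ∑ x : V, sgn (l (q x))
  have hsq : ∀ l : X →+ ZMod 2, l ≠ 0 → S l * S l = (Fintype.card V : ℤ) := by
    intro l hl
    have h1 : S l * S l = ∑ a : V, sgn (l (q a)) * ∑ x : V, sgn (l (polar q a x)) := by
      show (∑ x : V, sgn (l (q x))) * (∑ y : V, sgn (l (q y))) = _
      rw [Finset.sum_mul]
      simp_rw [Finset.mul_sum]
      calc ∑ x : V, ∑ y : V, sgn (l (q x)) * sgn (l (q y))
          = ∑ x : V, ∑ a : V, sgn (l (q x)) * sgn (l (q (x + a))) :=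
            Finset.sum_congr rfl fun x _ => (Equiv.sum_comp (Equiv.addLeft x) _).symm
        _ = ∑ a : V, ∑ x : V, sgn (l (q x)) * sgn (l (q (x + a))) := Finset.sum_comm
        _ = _ := Finset.sum_congr rfl fun a _ => Finset.sum_congr rfl fun x _ => by
            rw [← sgn_add, ← sgn_add, ← map_add, ← map_add, c.toAniso.q_add, polar_comm x a]
            congr 2
            rw [← add_assoc, ← add_assoc, c.toAniso.two', zero_add]
    rw [h1, Finset.sum_eq_single (0 : V)]
    · simp [c.toAniso.map_zero, sgn, polar_comm (0 : V), c.toAniso.polar_zero]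
    · intro a _ ha
      obtain ⟨y, hy⟩ := c.nondeg hl ha
      have h2 : ∑ x : V, sgn (l (polar q a x)) = -∑ x : V, sgn (l (polar q a x)) :=
        calc ∑ x : V, sgn (l (polar q a x))
            = ∑ x : V, sgn (l (polar q a (y + x))) := (Equiv.sum_comp (Equiv.addLeft y) _).symm
          _ = ∑ x : V, (-sgn (l (polar q a x))) := Finset.sum_congr rfl fun x _ => by
              have h3 : ∀ t : ZMod 2, t ≠ 0 → t = 1 := by decide
              rw [c.toAniso.add_right, map_add, h3 _ hy, sgn_one_add]
          _ = -∑ x : V, sgn (l (polar q a x)) := Finset.sum_neg_distrib _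
      have h4 : ∑ x : V, sgn (l (polar q a x)) = 0 := by omega
      rw [h4, mul_zero]
    · simp
  have htot : ∑ l : X →+ ZMod 2, S l = (Fintype.card (X →+ ZMod 2) : ℤ) := by
    rw [Finset.sum_comm, Finset.sum_eq_single (0 : V)]
    · simp [c.toAniso.map_zero, sgn]
    · intro x _ hx
      have hqx : q x ∉ (⊥ : AddSubgroup X) := fun h => hx (c.toAniso.aniso x h)
      obtain ⟨f, -, hf⟩ := exists_hom_two c.toAniso.two' ⊥ hqx
      have h2 : ∑ l : X →+ ZMod 2, sgn (l (q x)) = -∑ l : X →+ ZMod 2, sgn (l (q x)) :=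
        calc ∑ l : X →+ ZMod 2, sgn (l (q x))
            = ∑ l : X →+ ZMod 2, sgn ((f + l) (q x)) := (Equiv.sum_comp (Equiv.addLeft f) _).symm
          _ = ∑ l : X →+ ZMod 2, (-sgn (l (q x))) := Finset.sum_congr rfl fun l _ => by
              rw [AddMonoidHom.add_apply, hf, sgn_one_add]
          _ = _ := Finset.sum_neg_distrib _
      omega
    · simp
  by_contra hlt
  push Not at hlt
  rw [Nat.card_eq_fintype_card, Nat.card_eq_fintype_card] at hlt
  obtain ⟨L, hL⟩ : ∃ L : ℤ, L = Fintype.card (X →+ ZMod 2) := ⟨_, rfl⟩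
  obtain ⟨W, hW⟩ : ∃ W : ℤ, W = Fintype.card V := ⟨_, rfl⟩
  have hL1 : 1 ≤ L := hL ▸ by exact_mod_cast Fintype.card_pos (α := X →+ ZMod 2)
  have hlt' : L * L < W := by rw [hL, hW]; exact_mod_cast hlt
  rw [← hL] at htot
  rw [← Finset.add_sum_erase _ _ (Finset.mem_univ (0 : X →+ ZMod 2))] at htot
  have h0 : S 0 = W := by simp [S, sgn, hW]
  rw [h0] at htot
  set T := ∑ l ∈ Finset.univ.erase (0 : X →+ ZMod 2), S l
  by_cases hne : (Finset.univ.erase (0 : X →+ ZMod 2)).Nonempty
  · obtain ⟨l0, hl0⟩ := hne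
    obtain ⟨s, hs⟩ : ∃ s : ℤ, s = |S l0| := ⟨_, rfl⟩
    have hs0 : 0 ≤ s := hs ▸ abs_nonneg _
    have hss : s * s = W := by
      rw [hs, abs_mul_abs_self, hW]; exact hsq l0 (Finset.ne_of_mem_erase hl0)
    have hb : ∀ l ∈ Finset.univ.erase (0 : X →+ ZMod 2), -s ≤ S l := by
      intro l hl
      have h1 : S l * S l = s * s := by
        rw [hss, hW]; exact hsq l (Finset.ne_of_mem_erase hl)
      rcases mul_self_eq_mul_self_iff.1 h1 with h | h <;> rw [h] <;> omega
    have hT := Finset.sum_le_sum hb
    simp only [Finset.sum_const, nsmul_eq_mul] at hT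
    rw [Finset.card_erase_of_mem (Finset.mem_univ _), Finset.card_univ,
      Nat.cast_sub Fintype.card_pos, ← hL, Nat.cast_one] at hT
    have hsL : L < s := by nlinarith
    nlinarith
  · rw [Finset.not_nonempty_iff_eq_empty] at hne
    have : T = 0 := by simp only [T, hne, Finset.sum_empty]
    nlinarith

/-- The commutator of an involution is its fixed space, and the polar map pairs it with the cosets. -/
theorem involution {u : D} (hu : u * u = 1) (hu1 : u ≠ 1) :
    (∀ x, ρ u x = x → ∃ y, y + ρ u y = x) ∧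
      ∀ w, ρ u w = w → w ≠ 0 → ∀ x, polar q w x = 0 → ρ u x = x := by
  classical
  set F := fixOf ρ u with hF
  set I := (diffOf ρ u).range with hI
  have huu : ∀ y, ρ u (ρ u y) = y := fun y => by
    rw [← endMul, ← map_mul, hu, map_one]; rfl
  have hIF : I ≤ F := by
    rintro _ ⟨y, rfl⟩
    rw [mem_fixOf, diffOf_apply, map_add, huu, add_comm]
  have hmul : Nat.card F * Nat.card I = Nat.card V := by
    rw [← AddSubgroup.card_mul_index (diffOf ρ u).ker, AddSubgroup.index_ker, ker_diffOf c.toAniso u]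
  have hindex : F.index = Nat.card I := by
    rw [hF, ← ker_diffOf c.toAniso u, AddSubgroup.index_ker]
  have hFI := AddSubgroup.card_le_of_le hIF
  haveI : Finite (X →+ ZMod 2) := Finite.of_injective (fun f => (f : X → ZMod 2)) DFunLike.coe_injective
  haveI : Finite (V →+ ZMod 2) := Finite.of_injective (fun f => (f : V → ZMod 2)) DFunLike.coe_injective
  let Φ : (w : V) → w ∈ I → (X →+ ZMod 2) → {f : V →+ ZMod 2 // ∀ b ∈ F, f b = 0} := fun w hw l =>
    ⟨l.comp (AddMonoidHom.mk' (fun x => polar q w x) (c.toAniso.add_right w)), fun x hx => by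
      show l (polar q w x) = 0
      obtain ⟨y, rfl⟩ := hw
      rw [diffOf_apply, c.toAniso.add_left]
      have h1 : polar q (ρ u y) x = polar q y x := by
        nth_rw 1 [← mem_fixOf.1 hx]
        exact c.toAniso.polar_map u y x
      rw [h1, c.toAniso.two', map_zero]⟩
  have hinj : ∀ (w : V) (hw : w ∈ I), w ≠ 0 → Function.Injective (Φ w hw) := by
    intro w hw hw0 l l' hll
    by_contra hne
    obtain ⟨y, hy⟩ := c.nondeg (sub_ne_zero.2 hne) hw0
    refine hy ?_
    have := DFunLike.congr_fun (congrArg Subtype.val hll) y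
    simpa [sub_eq_zero, Φ] using this
  have hsq := c.card_le_sq
  obtain ⟨w0, hw0I, hw0⟩ : ∃ w ∈ I, w ≠ (0 : V) := by
    by_contra hne
    push Not at hne
    -- then `u` is trivial, and a nonzero functional bound gives a contradiction
    have : I = ⊥ := (AddSubgroup.eq_bot_iff_forall _).2 hne
    refine hu1 (c.faithful u fun x => ?_)
    have h1 : x + ρ u x ∈ I := ⟨x, rfl⟩
    rw [this, AddSubgroup.mem_bot] at h1
    exact (c.toAniso.eq_of_add _ _ h1).symm
  have hL : Nat.card (X →+ ZMod 2) ≤ Nat.card I :=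
    (Nat.card_le_card_of_injective _ (hinj w0 hw0I hw0)).trans
      ((card_killers_le c.toAniso.two F).trans hindex.le)
  have hIpos : 0 < Nat.card I := Nat.card_pos
  have hFI' : Nat.card F ≤ Nat.card I := by nlinarith
  have hIF' : I = F := AddSubgroup.eq_of_le_of_card_ge hIF hFI'
  refine ⟨fun x hx => ?_, fun w hw hw0 x hx => ?_⟩
  · have : x ∈ I := hIF' ▸ hx
    exact this
  · by_contra hxF
    have hwI : w ∈ I := hIF' ▸ hw
    obtain ⟨f, hf, hfx⟩ := exists_hom_two c.toAniso.two F (x := x) hxF
    have hbij := (hinj w hwI hw0).bijective_of_nat_card_le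
      ((card_killers_le c.toAniso.two F).trans (hindex.le.trans (by nlinarith)))
    obtain ⟨l, hl⟩ := hbij.2 ⟨f, hf⟩
    have h := DFunLike.congr_fun (congrArg Subtype.val hl) x
    rw [hfx] at h
    simp only [Φ, AddMonoidHom.coe_comp, Function.comp_apply, AddMonoidHom.mk'_apply, hx, map_zero] at h
    exact zero_ne_one h

/-- Two commuting involutions are equal. -/
theorem involution_unique {u v : D} (hu : u * u = 1) (hu1 : u ≠ 1) (hv : v * v = 1) (hv1 : v ≠ 1)
    (huv : u * v = v * u) : u = v := by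
  obtain ⟨hIu, hnu⟩ := c.involution hu hu1
  obtain ⟨hIv, hnv⟩ := c.involution hv hv1
  have hA := c.toAniso
  have hcomm : ∀ x, ρ u (ρ v x) = ρ v (ρ u x) := fun x => by
    rw [← endMul, ← map_mul, huv, map_mul]; rfl
  have huu : ∀ y, ρ u (ρ u y) = y := fun y => by
    rw [← endMul, ← map_mul, hu, map_one]; rfl
  have hvv : ∀ y, ρ v (ρ v y) = y := fun y => by
    rw [← endMul, ← map_mul, hv, map_one]; rfl
  have hsumU : ∀ y, ρ u (y + ρ u y) = y + ρ u y := fun y => by rw [map_add, huu, add_comm]
  have hsumV : ∀ y, ρ v (y + ρ v y) = y + ρ v y := fun y => by rw [map_add, hvv, add_comm]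
  -- a common fixed point
  obtain ⟨w, hw0, hwu, hwv⟩ : ∃ w, w ≠ (0 : V) ∧ ρ u w = w ∧ ρ v w = w := by
    obtain ⟨y, hy⟩ : ∃ y, y + ρ u y ≠ 0 := by
      by_contra hne
      push Not at hne
      exact hu1 (c.faithful u fun x => (hA.eq_of_add _ _ (hne x)).symm)
    by_cases hvy : ρ v (y + ρ u y) = y + ρ u y
    · exact ⟨_, hy, hsumU y, hvy⟩
    · refine ⟨(y + ρ u y) + ρ v (y + ρ u y), fun h => hvy (hA.eq_of_add _ _ h).symm, ?_, hsumV _⟩
      rw [map_add, hsumU, hcomm, hsumU]
  -- fixed spaces are totally isotropic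
  have hiso : ∀ {g : D}, g * g = 1 → g ≠ 1 → ∀ a b, ρ g a = a → ρ g b = b → polar q a b = 0 := by
    intro g hg hg1 a b ha hb
    obtain ⟨y, rfl⟩ := (c.involution hg hg1).1 a ha
    rw [hA.add_left]
    have h1 : polar q (ρ g y) b = polar q y b := by
      nth_rw 1 [← hb]
      exact hA.polar_map g y b
    rw [h1, hA.two']
  have hsub : ∀ x, ρ v x = x → ρ u x = x := fun x hx => hnu w hwu hw0 x (hiso hv hv1 w x hwv hx)
  have hsub' : ∀ x, ρ u x = x → ρ v x = x := fun x hx => hnv w hwv hw0 x (hiso hu hu1 w x hwu hx)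
  have hqsum : ∀ {g : D} (y), q (y + ρ g y) = polar q y (y + ρ g y) := fun {g} y => by
    rw [hA.q_add, hA.invar, hA.two', zero_add, hA.add_right, hA.polar_self, zero_add]
  have key : ∀ x, ρ u x = ρ v x := by
    intro x
    by_cases hx : ρ u x = x
    · rw [hx, hsub' x hx]
    obtain ⟨y, hy⟩ := hIu (x + ρ v x) (hsub _ (hsumV x))
    have hx' : x + ρ v x ≠ 0 := fun h => hx (hsub x (hA.eq_of_add _ _ h).symm)
    have h1 : polar q y (x + ρ v x) = q (x + ρ v x) := by rw [← hy, ← hqsum y]
    have h2 : polar q x (x + ρ v x) = q (x + ρ v x) := (hqsum x).symm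
    have h3 : polar q (x + ρ v x) (x + y) = 0 := by
      rw [polar_comm, hA.add_left, h1, h2, hA.two']
    have h4 := hnu _ (hsub _ (hsumV x)) hx' (x + y) h3
    rw [map_add] at h4
    have h5 : x + ρ u x = y + ρ u y := by
      refine hA.eq_of_add _ _ ?_
      calc (x + ρ u x) + (y + ρ u y) = (x + y) + (ρ u x + ρ u y) := by abel
        _ = 0 := by rw [h4, hA.two]
    rw [hy] at h5
    exact add_left_cancel h5
  refine eq_of_inv_mul_eq_one ?_
  refine c.faithful _ fun x => ?_
  rw [map_mul, endMul, ← key x, hA.act_inv]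

/-- No element has order four. -/
theorem no_order_four {u : D} (h4 : u * u * (u * u) = 1) : u * u = 1 := by
  by_contra hz1
  obtain ⟨hI, hn⟩ := c.involution h4 hz1
  have hA := c.toAniso
  have hz : ∀ y, ρ (u * u) y = ρ u (ρ u y) := fun y => by rw [map_mul]; rfl
  have hzz : ∀ y, ρ (u * u) (ρ (u * u) y) = y := fun y => by
    rw [← endMul, ← map_mul, h4, map_one]; rfl
  have hfix : ∀ a, ρ (u * u) a = a → ρ u a = a := by
    intro a ha
    have hb : ρ (u * u) (ρ u a) = ρ u a := by
      rw [hz, ← hz a, ha]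
    have hab : polar q a (ρ u a) = 0 := by
      obtain ⟨y, hy⟩ := hI a ha
      rw [← hy, hA.add_left]
      have h1 : polar q (ρ (u * u) y) (ρ u (y + ρ (u * u) y)) = polar q y (ρ u (y + ρ (u * u) y)) := by
        rw [hy]
        nth_rw 1 [← hb]
        exact hA.polar_map _ _ _
      rw [h1, hA.two']
    exact (hA.eq_of_add _ _ (hA.aniso _ (by rw [hA.q_add, hA.invar, hA.two', hab, add_zero]))).symm
  apply hz1
  refine c.faithful _ fun x => ?_
  have hsum : ρ (u * u) (x + ρ (u * u) x) = x + ρ (u * u) x := by rw [map_add, hzz, add_comm]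
  have h1 : ρ u (x + ρ (u * u) x) = x + ρ (u * u) x := hfix _ hsum
  have h2 : ρ (u * u) (x + ρ u x) = x + ρ u x := by
    rw [map_add]
    refine hA.eq_of_add _ _ ?_
    rw [show ρ (u * u) (ρ u x) = ρ u (ρ (u * u) x) by rw [hz, hz]]
    calc (ρ (u * u) x + ρ u (ρ (u * u) x)) + (x + ρ u x)
        = (x + ρ (u * u) x) + (ρ u x + ρ u (ρ (u * u) x)) := by abel
      _ = 0 := by rw [← map_add, h1, hA.two]
  have h3 := hfix _ h2
  rw [map_add, ← hz] at h3
  rw [add_comm x (ρ u x)] at h3
  exact add_left_cancel h3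

end IsCore

end Core

end CfsgLib.OutSylowTwo
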