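import Cfsg.Agent.Lib.OutSylowTwo.Quad
import Cfsg.Agent.Lib.ConstDiff.Burnside

/-!
# A group preserving an anisotropic quadratic map is solvable

We reduce to an irreducible module: in a minimal submodule moved by a perfect group the fixed points
are orthogonal to everything, and the map stays anisotropic modulo their values.
-/

set_option autoImplicit false
set_option linter.unusedSectionVars false

namespace CfsgLib.OutSylowTwo

universe u

variable {V X : Type u} [AddCommGroup V] [Finite V] [AddCommGroup X] [Finite X] {D : Type u}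
  [Group D] [Finite D] {ρ : D →* AddMonoid.End V} {q : V → X}

/-- A perfect group acts trivially. -/
theorem IsCore.false_of_perfect (c : IsCore ρ q) (hperf : commutator D = ⊤) : False := by
  haveI : Fact (Nat.Prime 2) := ⟨Nat.prime_two⟩
  obtain ⟨P⟩ : Nonempty (Sylow 2 D) := inferInstance
  have hP : Nat.card (P : Subgroup D) ≤ 2 := by
    have hpow : ∀ a : (P : Subgroup D), (a : D) * a = 1 := fun a => by
      obtain ⟨j, hj⟩ := P.2 a
      have hj' : (a : D) ^ 2 ^ j = 1 := congrArg Subtype.val hj
      clear hj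
      induction j with
      | zero => simp only [pow_zero, pow_one] at hj'; rw [hj', one_mul]
      | succ j ih =>
        rcases j with _ | j
        · simpa [pow_two] using hj'
        · apply ih
          have h4 : ((a : D) ^ 2 ^ j) * ((a : D) ^ 2 ^ j) * (((a : D) ^ 2 ^ j) * ((a : D) ^ 2 ^ j)) = 1 := by
            rw [← pow_add, ← pow_add, ← hj']
            congr 1
            ring
          have := c.no_order_four h4
          rw [← pow_add] at this
          rw [← this]
          congr 1
          ring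
    have huniq : ∀ a b : (P : Subgroup D), (a : D) ≠ 1 → (b : D) ≠ 1 → a = b := by
      intro a b ha hb
      refine Subtype.ext (c.involution_unique (hpow a) ha (hpow b) hb ?_)
      have hinv : ∀ a : (P : Subgroup D), (a : D)⁻¹ = a := fun a => inv_eq_of_mul_eq_one_left (hpow a)
      calc (a : D) * b = ((a * b : (P : Subgroup D)) : D)⁻¹ := by rw [hinv]; rfl
        _ = (b : D) * a := by rw [Subgroup.coe_mul, mul_inv_rev, hinv, hinv]
    classical
    letI := Fintype.ofFinite (P : Subgroup D)
    rw [Nat.card_eq_fintype_card, ← Finset.card_univ]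
    by_cases he : ∃ a : (P : Subgroup D), a ≠ 1
    · obtain ⟨a, ha⟩ := he
      refine (Finset.card_le_card (t := ({1, a} : Finset (P : Subgroup D))) fun b _ => ?_).trans
        Finset.card_le_two
      by_cases hb : b = 1
      · simp [hb]
      · simp [huniq b a (fun h => hb (Subtype.ext h)) (fun h => ha (Subtype.ext h))]
    · push Not at he
      refine (Finset.card_le_card (t := ({1} : Finset (P : Subgroup D))) fun b _ => ?_).trans (by simp)
      simp [he b]
  haveI := CfsgLib.ConstDiff.solvable_of_card_le_two P hP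
  obtain ⟨d, x, hdx⟩ := c.nontriv
  haveI : Nontrivial D := ⟨⟨d, 1, fun h => hdx (by rw [h, map_one]; rfl)⟩⟩
  exact (Group.IsSolvable.commutator_lt_top_of_nontrivial D).ne hperf

/-- A module whose proper submodules consist of fixed points is not moved by a perfect group. -/
theorem Aniso.false_of_minimal (h : Aniso ρ q) (hperf : commutator D = ⊤) (F : AddSubgroup V)
    (hF : ∀ f ∈ F, ∀ d, ρ d f = f) (hFne : F ≠ ⊤)
    (hmin : ∀ A : AddSubgroup V, (∀ d : D, ∀ x ∈ A, ρ d x ∈ A) → A = ⊤ ∨ A ≤ F)
    (hfix : ∀ x : V, (∀ d, ρ d x = x) → x ∈ F) : False := by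
  have hder : ∀ A : AddSubgroup V, A ≤ F → ¬ ∀ (d : D) (x : V), ρ d x - x ∈ A := by
    intro A hAF hall
    refine hFne (eq_top_iff.2 fun x _ => hfix x fun d => ?_)
    let f : D →* Multiplicative V := MonoidHom.mk' (fun d => Multiplicative.ofAdd (ρ d x - x))
      fun a b => by
        show Multiplicative.ofAdd _ = Multiplicative.ofAdd _ * Multiplicative.ofAdd _
        rw [← ofAdd_add]
        congr 1
        have h1 := hF _ (hAF (hall b x)) a
        rw [map_sub] at h1
        rw [map_mul, endMul]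
        calc ρ a (ρ b x) - x = (ρ a (ρ b x) - ρ a x) + (ρ a x - x) := by abel
          _ = _ := by rw [h1]; abel
    have h1 : d ∈ f.ker := Abelianization.commutator_subset_ker f (hperf ▸ Subgroup.mem_top d)
    exact sub_eq_zero.1 (congrArg Multiplicative.toAdd (MonoidHom.mem_ker.1 h1))
  have hdf : ∀ (d : D) (f : V), f ∈ F → ∀ x, polar q f (ρ d x) = polar q f x := by
    intro d f hf x
    nth_rw 1 [← hF f hf d]
    exact h.polar_map d f x
  have horth : ∀ f ∈ F, ∀ x, polar q f x = 0 := by
    let A : AddSubgroup V :=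
      { carrier := {x | ∀ f ∈ F, polar q f x = 0}
        add_mem' := fun {a b} ha hb f hf => by rw [h.add_right, ha f hf, hb f hf, add_zero]
        zero_mem' := fun f _ => h.polar_zero _
        neg_mem' := fun {a} ha f hf => by
          rw [show -a = a from (h.eq_of_add _ _ (add_neg_cancel a)).symm]
          exact ha f hf }
    rcases hmin A (fun d x hx f hf => (hdf d f hf x).trans (hx f hf)) with hA | hA
    · exact fun f hf x => (hA ▸ AddSubgroup.mem_top x : x ∈ A) f hf
    · refine absurd (fun d x f hf => ?_) (hder A hA)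
      rw [sub_eq_add_neg, show -x = x from (h.eq_of_add _ _ (add_neg_cancel x)).symm, h.add_right,
        hdf d f hf, h.two']
  let qF : F →+ X := AddMonoidHom.mk' (fun f => q (f : V)) fun a b => by
    show q ((a : V) + (b : V)) = _
    rw [h.q_add, horth a a.2 b, add_zero]
  obtain ⟨N, hN⟩ : ∃ N : AddSubgroup X, N = qF.range := ⟨_, rfl⟩
  have hqF : ∀ x f : V, f ∈ F → q (x + f) = q x + q f := fun x f hf => by
    rw [h.q_add, polar_comm, horth f hf x, add_zero]
  have hwd : ∀ x y : V, -x + y ∈ F → ((q x : X) : X ⧸ N) = ((q y : X) : X ⧸ N) := by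
    intro x y hxy
    have hy : y = x + (-x + y) := by abel
    have hm : q (-x + y) ∈ N := hN ▸ ⟨⟨_, hxy⟩, rfl⟩
    rw [hy, hqF x _ hxy, QuotientAddGroup.mk_add, (QuotientAddGroup.eq_zero_iff _).2 hm, add_zero]
  let q₀ : V ⧸ F → X ⧸ N := fun z => Quotient.liftOn' z (fun x => ((q x : X) : X ⧸ N))
    fun x y hxy => hwd x y (QuotientAddGroup.leftRel_apply.1 hxy)
  let X' : AddSubgroup (X ⧸ N) := AddSubgroup.closure (Set.range q₀)
  let q₁ : V ⧸ F → X' := fun z => ⟨q₀ z, AddSubgroup.subset_closure ⟨z, rfl⟩⟩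
  have hFle : ∀ d, F ≤ F.comap (ρ d) := fun d x hx => by
    show ρ d x ∈ F
    rw [hF x hx d]; exact hx
  let ρ₀ : D →* AddMonoid.End (V ⧸ F) :=
    { toFun := fun d => QuotientAddGroup.map F F (ρ d) (hFle d)
      map_one' := AddMonoidHom.ext fun z => by
        obtain ⟨x, rfl⟩ := QuotientAddGroup.mk'_surjective F z
        show ((ρ 1 x : V) : V ⧸ F) = _
        rw [map_one]; rfl
      map_mul' := fun a b => AddMonoidHom.ext fun z => by
        obtain ⟨x, rfl⟩ := QuotientAddGroup.mk'_surjective F z
        show ((ρ (a * b) x : V) : V ⧸ F) = _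
        rw [map_mul]; rfl }
  have hperf1 : commutator (D ⧸ ρ₀.ker) = ⊤ := by
    have h1 : (⊤ : Subgroup D).map (QuotientGroup.mk' ρ₀.ker) = ⊤ :=
      Subgroup.map_top_of_surjective _ (QuotientGroup.mk'_surjective ρ₀.ker)
    calc commutator (D ⧸ ρ₀.ker) = ⁅(⊤ : Subgroup D).map (QuotientGroup.mk' ρ₀.ker),
          (⊤ : Subgroup D).map (QuotientGroup.mk' ρ₀.ker)⁆ := by rw [h1]; rfl
      _ = (commutator D).map (QuotientGroup.mk' ρ₀.ker) := (Subgroup.map_commutator _ _ _).symm
      _ = ⊤ := by rw [hperf, h1]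
  have hA0 : Aniso (QuotientGroup.lift ρ₀.ker ρ₀ le_rfl) q₁ := by
    refine ⟨?_, ?_, ?_, ?_, ?_⟩
    · intro z
      obtain ⟨x, rfl⟩ := QuotientAddGroup.mk'_surjective F z
      rw [← map_add, h.two, _root_.map_zero]
    · rintro ⟨e, he⟩
      obtain ⟨e, rfl⟩ := QuotientAddGroup.mk'_surjective N e
      refine Subtype.ext ?_
      show QuotientAddGroup.mk' N e + QuotientAddGroup.mk' N e = 0
      rw [← map_add, h.two', _root_.map_zero]
    · intro a b c
      obtain ⟨a, rfl⟩ := QuotientAddGroup.mk'_surjective F a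
      obtain ⟨b, rfl⟩ := QuotientAddGroup.mk'_surjective F b
      obtain ⟨c, rfl⟩ := QuotientAddGroup.mk'_surjective F c
      refine Subtype.ext ?_
      show QuotientAddGroup.mk' N (polar q (a + b) c) =
        QuotientAddGroup.mk' N (polar q a c) + QuotientAddGroup.mk' N (polar q b c)
      rw [h.add_left, map_add]
    · intro d z
      obtain ⟨d, rfl⟩ := QuotientGroup.mk'_surjective _ d
      obtain ⟨x, rfl⟩ := QuotientAddGroup.mk'_surjective F z
      refine Subtype.ext ?_
      show ((q (ρ d x) : X) : X ⧸ N) = ((q x : X) : X ⧸ N)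
      rw [h.invar]
    · intro z hz
      obtain ⟨x, rfl⟩ := QuotientAddGroup.mk'_surjective F z
      have hm : q x ∈ N := (QuotientAddGroup.eq_zero_iff _).1 (congrArg Subtype.val hz :)
      rw [hN] at hm
      obtain ⟨f, hf⟩ := hm
      have h1 : q (x + (f : V)) = 0 := by
        rw [hqF x _ f.2]
        show q x + qF f = 0
        rw [hf, h.two']
      exact (QuotientAddGroup.eq_zero_iff _).2 (h.eq_of_add _ _ (h.aniso _ h1) ▸ f.2)
  refine IsCore.false_of_perfect (ρ := QuotientGroup.lift ρ₀.ker ρ₀ le_rfl) (q := q₁)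
    ⟨hA0, ?_, ?_, ?_, ?_⟩ hperf1
  · intro d hd
    obtain ⟨d, rfl⟩ := QuotientGroup.mk'_surjective _ d
    exact (QuotientGroup.eq_one_iff _).2 (AddMonoidHom.ext hd)
  · by_contra hc
    push Not at hc
    refine hder F le_rfl fun d x => ?_
    have h1 := hc (QuotientGroup.mk' _ d) (QuotientAddGroup.mk' F x)
    rw [← QuotientAddGroup.eq_zero_iff, QuotientAddGroup.mk_sub]
    exact sub_eq_zero.2 h1
  · intro A hA
    rcases hmin (A.comap (QuotientAddGroup.mk' F))
        (fun d x hx => hA (QuotientGroup.mk' _ d) _ hx) with h1 | h1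
    · refine Or.inr (eq_top_iff.2 fun z _ => ?_)
      obtain ⟨x, rfl⟩ := QuotientAddGroup.mk'_surjective F z
      exact (h1 ▸ AddSubgroup.mem_top x : x ∈ A.comap (QuotientAddGroup.mk' F))
    · refine Or.inl ((AddSubgroup.eq_bot_iff_forall _).2 fun z hz => ?_)
      obtain ⟨x, rfl⟩ := QuotientAddGroup.mk'_surjective F z
      exact (QuotientAddGroup.eq_zero_iff _).2 (h1 hz)
  · have hr : (Set.range q₁) = (((↑) : X' → X ⧸ N) ⁻¹' Set.range q₀) := by
      ext z
      constructor
      · rintro ⟨w, rfl⟩; exact ⟨w, rfl⟩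
      · rintro ⟨w, hw⟩; exact ⟨w, Subtype.ext hw⟩
    rw [hr]
    exact AddSubgroup.closure_closure_coe_preimage

/-- A perfect group preserving an anisotropic quadratic map acts trivially. -/
theorem Aniso.trivial_of_perfect (h : Aniso ρ q) (hperf : commutator D = ⊤) :
    ∀ (d : D) (x : V), ρ d x = x := by
  classical
  by_contra hne
  obtain ⟨W, -, hW⟩ := Finite.exists_le_minimal
    (p := fun A : AddSubgroup V => (∀ d : D, ∀ x ∈ A, ρ d x ∈ A) ∧ ∃ d : D, ∃ x ∈ A, ρ d x ≠ x)
    (a := (⊤ : AddSubgroup V))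
    ⟨fun _ _ _ => AddSubgroup.mem_top _, by
      push Not at hne
      obtain ⟨d, x, hx⟩ := hne
      exact ⟨d, x, AddSubgroup.mem_top x, hx⟩⟩
  obtain ⟨hWinv, hWmov⟩ := hW.1
  let ρW : D →* AddMonoid.End W :=
    { toFun := fun d => AddMonoidHom.mk' (fun x => ⟨ρ d x, hWinv d x x.2⟩)
        (fun a b => Subtype.ext (map_add (ρ d) (a : V) b))
      map_one' := AddMonoidHom.ext fun x => Subtype.ext (by show ρ 1 (x : V) = x; rw [map_one]; rfl)
      map_mul' := fun a b => AddMonoidHom.ext fun x => Subtype.ext (by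
        show ρ (a * b) (x : V) = ρ a (ρ b x); rw [map_mul]; rfl) }
  have hAW : Aniso ρW (fun x : W => q (x : V)) :=
    ⟨fun x => Subtype.ext (h.two _), h.two', fun x y z => h.add_left (x : V) y z,
      fun d x => h.invar d x, fun x hx => Subtype.ext (h.aniso _ hx)⟩
  let F : AddSubgroup W :=
    { carrier := {x | ∀ d : D, ρW d x = x}
      add_mem' := fun {a b} ha hb d => by rw [map_add, ha d, hb d]
      zero_mem' := fun d => _root_.map_zero (ρW d)
      neg_mem' := fun {a} ha d => by rw [map_neg, ha d] }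
  refine hAW.false_of_minimal hperf F (fun f hf => hf) (fun htop => ?_) (fun A hA => ?_) (fun x hx => hx)
  · obtain ⟨d, x, hx, hdx⟩ := hWmov
    exact hdx (congrArg Subtype.val ((htop ▸ AddSubgroup.mem_top (⟨x, hx⟩ : W) :
      (⟨x, hx⟩ : W) ∈ F) d))
  · by_contra hc
    push Not at hc
    obtain ⟨x, hxA, hxF⟩ := SetLike.not_le_iff_exists.1 hc.2
    obtain ⟨d, hd⟩ : ∃ d, ρW d x ≠ x := by by_contra hh; push Not at hh; exact hxF hh
    have hle : W ≤ A.map W.subtype := hW.2
      ⟨by rintro g _ ⟨y, hy, rfl⟩; exact ⟨ρW g y, hA g y hy, rfl⟩,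
        ⟨d, x, ⟨x, hxA, rfl⟩, fun hh => hd (Subtype.ext hh)⟩⟩
      (by rintro _ ⟨y, -, rfl⟩; exact y.2)
    refine hc.1 (eq_top_iff.2 fun z _ => ?_)
    obtain ⟨y, hy, hyz⟩ := hle z.2
    rwa [← Subtype.ext hyz]

/-- **A group preserving an anisotropic quadratic map is solvable** (given the odd order theorem). -/
theorem Aniso.isSolvable (h : Aniso ρ q) (hf : ∀ d : D, (∀ x, ρ d x = x) → d = 1) :
    Group.IsSolvable D := by
  by_contra hns
  obtain ⟨K, -, hK⟩ := Finite.exists_le_minimal (p := fun K : Subgroup D => ¬ Group.IsSolvable K)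
    (a := (⊤ : Subgroup D)) (fun hs => hns (Group.isSolvable_of_surjective
      (f := (Subgroup.topEquiv : (⊤ : Subgroup D) ≃* D).toMonoidHom) (MulEquiv.surjective _)))
  have hperf : commutator K = ⊤ := by
    by_contra hne
    have hsC : Group.IsSolvable ↥((commutator K).map K.subtype) := by
      by_contra hs
      refine hne (eq_top_iff.2 fun k _ => ?_)
      obtain ⟨y, hy, hyk⟩ : (k : D) ∈ (commutator K).map K.subtype :=
        (hK.2 hs (Subgroup.map_subtype_le _)) k.2
      rwa [← Subtype.ext hyk]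
    have hs2 : Group.IsSolvable (commutator K) :=
      Group.isSolvable_of_surjective
        (f := ((commutator K).equivMapOfInjective K.subtype Subtype.val_injective).symm.toMonoidHom)
        (MulEquiv.surjective _)
    refine hK.1 (CfsgLib.ConstDiff.isSolvable_of_normal (commutator K) hs2 ?_)
    exact Group.isSolvable_of_comm fun a b => (Abelianization.commGroup K).mul_comm a b
  have hA : Aniso (ρ.comp K.subtype) q :=
    ⟨h.two, h.two', h.add_left, fun d x => h.invar d x, h.aniso⟩
  have ht := hA.trivial_of_perfect hperf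
  refine hK.1 (Group.isSolvable_of_comm fun a b => ?_)
  have h1 : ∀ k : K, k = 1 := fun k => Subtype.ext (hf _ (ht k))
  rw [h1 a, h1 b]

end CfsgLib.OutSylowTwo
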