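import Cfsg.Agent.Lib.OutSylowTwo.QuadSolv
import Cfsg.Agent.Lib.PGroup.Critical

/-!
# Automorphisms of a 2-group fixing its commuting involutions

If the involutions of a finite 2-group commute, the automorphisms fixing all of them form a solvable
group. On a critical subgroup `C` the elements with square among the involutions form a group `U`;
squaring is an anisotropic quadratic map on `U` modulo the involutions, and an automorphism of odd
order fixing `U` is trivial.
-/

set_option autoImplicit false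
set_option linter.unusedSectionVars false

namespace CfsgLib.OutSylowTwo

open scoped commutatorElement

universe u

variable {S : Type u} [Group S] [Finite S]

/-- The automorphisms fixing every involution. -/
def fixInv (S : Type u) [Group S] : Subgroup (MulAut S) where
  carrier := {γ | ∀ x : S, x * x = 1 → γ x = x}
  one_mem' := fun _ _ => rfl
  mul_mem' := fun {a b} ha hb x hx => by rw [MulAut.mul_apply, hb x hx, ha x hx]
  inv_mem' := fun {a} ha x hx => by
    conv_lhs => rw [← ha x hx]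
    exact MulAut.inv_apply_self S a x

theorem pow_apply_of_fix (γ : MulAut S) {x d : S} (hx : γ x = x * d) (hd : γ d = d) :
    ∀ k : ℕ, (γ ^ k) x = x * d ^ k := by
  intro k
  induction k with
  | zero => simp
  | succ k ih =>
    rw [pow_succ', MulAut.mul_apply, ih, map_mul, map_pow, hx, hd, mul_assoc, ← pow_succ']

/-- An automorphism of odd order cannot translate by an element it fixes. -/
theorem eq_one_of_translate (hS : IsPGroup 2 S) (γ : MulAut S) (hγ : Odd (orderOf γ)) {x d : S}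
    (hx : γ x = x * d) (hd : γ d = d) : d = 1 := by
  have h := pow_apply_of_fix γ hx hd (orderOf γ)
  rw [pow_orderOf_eq_one, MulAut.one_apply] at h
  have h1 : d ^ orderOf γ = 1 := left_eq_mul.mp h
  obtain ⟨j, hj⟩ := hS d
  have h2 : orderOf d ∣ Nat.gcd (orderOf γ) (2 ^ j) :=
    Nat.dvd_gcd (orderOf_dvd_of_pow_eq_one h1) (orderOf_dvd_of_pow_eq_one hj)
  rw [((Nat.coprime_two_right.2 hγ).pow_right j).gcd_eq_one, Nat.dvd_one, orderOf_eq_one_iff] at h2
  exact h2

/-- A group whose elements of odd order are trivial is a 2-group. -/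
theorem isPGroup_two_of_odd {K : Type u} [Group K] [Finite K]
    (h : ∀ k : K, Odd (orderOf k) → k = 1) : IsPGroup 2 K := by
  rw [IsPGroup.iff_orderOf]
  intro k
  obtain ⟨a, m, hm, ha⟩ := Nat.exists_eq_pow_mul_and_not_dvd (orderOf_pos k).ne' 2 (by norm_num)
  refine ⟨a, ?_⟩
  have hk : k ^ 2 ^ a = 1 := by
    refine h _ ?_
    rw [orderOf_pow_of_dvd (pow_ne_zero _ (by norm_num)) (Dvd.intro m ha.symm), ha,
      Nat.mul_div_cancel_left _ (pow_pos (by norm_num) a)]
    exact Nat.not_even_iff_odd.1 fun he => hm he.two_dvd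
  exact Nat.dvd_antisymm (orderOf_dvd_of_pow_eq_one hk) (Dvd.intro m ha.symm)

theorem isSolvable_two {K : Type u} [Group K] [Finite K] (h : IsPGroup 2 K) : Group.IsSolvable K := by
  haveI : Fact (Nat.Prime 2) := ⟨Nat.prime_two⟩
  haveI := h.isNilpotent
  infer_instance

/-- The involutions are central. -/
theorem isSolvable_fixInv_of_central (hS : IsPGroup 2 S)
    (hcen : ∀ e : S, e * e = 1 → ∀ g : S, e * g = g * e) : Group.IsSolvable (fixInv S) := by
  haveI : Fact (Nat.Prime 2) := ⟨Nat.prime_two⟩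
  haveI : Finite (MulAut S) := Finite.of_injective (fun f : MulAut S => (f : S → S)) DFunLike.coe_injective
  obtain ⟨C, hC, hCC, hcomm, hpow⟩ := CfsgLib.PGroup.exists_critical (p := 2) hS
  have hCinv : ∀ (γ : MulAut S) (x : S), x ∈ C → γ x ∈ C := fun γ x hx =>
    (Subgroup.characteristic_iff_le_comap.1 hC γ) hx
  -- squares and commutators in `C` are central in `C`
  have hsq : ∀ x ∈ C, ∀ y ∈ C, (x * x) * y = y * (x * x) := fun x hx y hy => by
    have h := (hpow x hx).2 y hy
    rw [pow_two] at h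
    exact h.symm
  have hc : ∀ x ∈ C, ∀ y ∈ C, ∀ z ∈ C, ⁅y, x⁆ * z = z * ⁅y, x⁆ := fun x hx y _ z hz =>
    ((hcomm y x hx).2 z hz).symm
  have hcC : ∀ x ∈ C, ∀ y : S, ⁅y, x⁆ ∈ C := fun x hx y => (hcomm y x hx).1
  -- commutators have exponent two
  have hc2 : ∀ x ∈ C, ∀ y ∈ C, ⁅y, x⁆ * ⁅y, x⁆ = 1 := by
    intro x hx y hy
    have h1 := hsq y hy x hx
    have h3 := hc x hx y hy y hy
    calc ⁅y, x⁆ * ⁅y, x⁆ = ⁅y, x⁆ * (y * x * y⁻¹ * x⁻¹) := by rw [commutatorElement_def]
      _ = ⁅y, x⁆ * y * (x * y⁻¹ * x⁻¹) := by group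
      _ = y * ⁅y, x⁆ * (x * y⁻¹ * x⁻¹) := by rw [h3]
      _ = y * y * x * (y⁻¹ * y⁻¹) * x⁻¹ := by rw [commutatorElement_def]; group
      _ = x * (y * y) * (y⁻¹ * y⁻¹) * x⁻¹ := by rw [h1]
      _ = 1 := by group
  have hmul : ∀ x ∈ C, ∀ y ∈ C, (x * y) * (x * y) = ⁅y, x⁆ * ((x * x) * (y * y)) := by
    intro x hx y hy
    have h3 := hc x hx y hy x hx
    calc x * y * (x * y) = x * (⁅y, x⁆ * (x * y)) * y := by rw [commutatorElement_def]; group
      _ = (x * ⁅y, x⁆) * (x * y * y) := by group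
      _ = _ := by rw [← h3]; group
  -- elements of `C` with square among the involutions
  let U : Subgroup S :=
    { carrier := {x | x ∈ C ∧ (x * x) * (x * x) = 1}
      one_mem' := ⟨one_mem C, by simp⟩
      inv_mem' := fun {x} ⟨hx, hx4⟩ => ⟨C.inv_mem hx, by
        rw [show x⁻¹ * x⁻¹ * (x⁻¹ * x⁻¹) = ((x * x) * (x * x))⁻¹ by group, hx4, inv_one]⟩
      mul_mem' := fun {x y} ⟨hx, hx4⟩ ⟨hy, hy4⟩ => ⟨C.mul_mem hx hy, by
        rw [hmul x hx y hy]
        have h1 := hc2 x hx y hy
        have e1 := hcen _ h1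
        have e2 := hcen _ hx4
        calc ⁅y, x⁆ * (x * x * (y * y)) * (⁅y, x⁆ * (x * x * (y * y)))
            = ⁅y, x⁆ * ((x * x * (y * y)) * ⁅y, x⁆) * (x * x * (y * y)) := by group
          _ = ⁅y, x⁆ * (⁅y, x⁆ * (x * x * (y * y))) * (x * x * (y * y)) := by
              rw [← e1 (x * x * (y * y))]
          _ = (⁅y, x⁆ * ⁅y, x⁆) * (x * x) * ((y * y) * (x * x)) * (y * y) := by group
          _ = (⁅y, x⁆ * ⁅y, x⁆) * (x * x) * ((x * x) * (y * y)) * (y * y) := by
              rw [← e2 (y * y)]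
          _ = (⁅y, x⁆ * ⁅y, x⁆) * ((x * x) * (x * x)) * ((y * y) * (y * y)) := by group
          _ = 1 := by rw [h1, hx4, hy4, mul_one, mul_one]⟩ }
  -- automorphisms of odd order fixing `U` are trivial
  have hodd : ∀ γ : MulAut S, γ ∈ fixInv S → Odd (orderOf γ) → (∀ x ∈ U, γ x = x) → γ = 1 := by
    intro γ _ hγ hU
    have hfixC : ∀ n : ℕ, ∀ x ∈ C, x ^ 2 ^ n = 1 → γ x = x := by
      intro n
      induction n with
      | zero => intro x _ h; rw [pow_zero, pow_one] at h; rw [h, map_one]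
      | succ n ih =>
        intro x hx h
        have hsx : γ (x * x) = x * x := ih _ (C.mul_mem hx hx) (by
          rw [← pow_two, ← pow_mul, ← pow_succ']; exact h)
        obtain ⟨d, hd⟩ : ∃ d, d = x⁻¹ * γ x := ⟨_, rfl⟩
        have hdC : d ∈ C := hd ▸ C.mul_mem (C.inv_mem hx) (hCinv γ x hx)
        have hxd : γ x = x * d := by rw [hd]; group
        have h1 : (x * d) * (x * d) = x * x := by rw [← hxd, ← map_mul, hsx]
        rw [hmul x hx d hdC] at h1
        have h2 : ⁅d, x⁆ * (d * d) = 1 := by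
          have e1 := hcen _ (hc2 x hx d hdC)
          calc ⁅d, x⁆ * (d * d) = (x * x)⁻¹ * ((x * x) * ⁅d, x⁆) * (d * d) := by group
            _ = (x * x)⁻¹ * (⁅d, x⁆ * ((x * x) * (d * d))) := by rw [← e1]; group
            _ = 1 := by rw [h1, inv_mul_cancel]
        have hdU : d ∈ U := ⟨hdC, by
          rw [show d * d = ⁅d, x⁆⁻¹ from eq_inv_of_mul_eq_one_right h2, ← mul_inv_rev,
            hc2 x hx d hdC, inv_one]⟩
        have hd1 := eq_one_of_translate hS γ hγ hxd (hU d hdU)
        rw [hxd, hd1, mul_one]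
    refine MulEquiv.ext fun x => ?_
    obtain ⟨d, hd⟩ : ∃ d, d = x⁻¹ * γ x := ⟨_, rfl⟩
    have hxd : γ x = x * d := by rw [hd]; group
    have hC' : ∀ z ∈ C, γ z = z := fun z hz => by
      obtain ⟨n, hn⟩ := hS z
      exact hfixC n z hz hn
    have hdC : d ∈ C := hCC (Subgroup.mem_centralizer_iff.2 fun z hz => by
      have h1 : x * z * x⁻¹ ∈ C := Subgroup.Normal.conj_mem inferInstance z hz x
      have h2 := hC' _ h1
      rw [map_mul, map_mul, map_inv, hC' z hz, hxd] at h2
      calc z * d = x⁻¹ * (x * z * x⁻¹) * (x * d) := by group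
        _ = x⁻¹ * (x * d * z * (x * d)⁻¹) * (x * d) := by rw [h2]
        _ = d * z := by group)
    rw [hxd, eq_one_of_translate hS γ hγ hxd (hC' d hdC), mul_one]
    rfl
  -- the involutions of `U` and the quotient
  let N : Subgroup U :=
    { carrier := {x | (x : S) * x = 1}
      one_mem' := by simp
      inv_mem' := fun {x} (hx : (x : S) * x = 1) => by
        show (x : S)⁻¹ * (x : S)⁻¹ = 1
        rw [← mul_inv_rev, hx, inv_one]
      mul_mem' := fun {x y} (hx : (x : S) * x = 1) (hy : (y : S) * y = 1) => by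
        show (x : S) * y * ((x : S) * y) = 1
        calc (x : S) * y * ((x : S) * y) = (x : S) * ((y : S) * x) * y := by group
          _ = ((x : S) * x) * ((y : S) * y) := by rw [← hcen _ hx]; group
          _ = 1 := by rw [hx, hy, mul_one] }
  haveI hNn : N.Normal := ⟨fun n hn g => by
    have h : g * n * g⁻¹ = n := Subtype.ext (by
      show (g : S) * n * (g : S)⁻¹ = n
      rw [← hcen _ hn, mul_inv_cancel_right])
    rw [h]; exact hn⟩
  have hUC : ∀ x : U, (x : S) ∈ C := fun x => x.2.1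
  have hcN : ∀ x y : U, ((QuotientGroup.mk (x * y) : U ⧸ N)) = QuotientGroup.mk (y * x) := fun x y => by
    rw [QuotientGroup.eq]
    have h2 := hc2 (x⁻¹ : U) (hUC _) (y⁻¹ : U) (hUC _)
    show ((((x * y)⁻¹ * (y * x)) : U) : S) * (((x * y)⁻¹ * (y * x)) : U) = 1
    rw [show ((((x * y)⁻¹ * (y * x)) : U) : S) = ⁅((y⁻¹ : U) : S), ((x⁻¹ : U) : S)⁆ by
      push_cast; rw [commutatorElement_def]; group]
    exact h2
  letI : CommGroup (U ⧸ N) :=
    { (inferInstance : Group (U ⧸ N)) with
      mul_comm := by rintro ⟨a⟩ ⟨b⟩; exact hcN a b }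
  letI : CommGroup N :=
    { (inferInstance : Group N) with
      mul_comm := fun a b => Subtype.ext (Subtype.ext (hcen _ a.2 ((b : U) : S))) }
  have hsN : ∀ x : U, (x * x : U) ∈ N := fun x => x.2.2
  let qs : U ⧸ N → N := fun z => Quotient.liftOn' z (fun x => (⟨x * x, hsN x⟩ : N))
    fun x y hxy => by
      rw [QuotientGroup.leftRel_apply] at hxy
      obtain ⟨n, hn⟩ : ∃ n : S, n = ((x⁻¹ * y : U) : S) := ⟨_, rfl⟩
      have hn1 : n * n = 1 := hn ▸ hxy
      have hy : (y : S) = (x : S) * n := by rw [hn]; push_cast; group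
      refine Subtype.ext (Subtype.ext ?_)
      show (x : S) * x = (y : S) * y
      rw [hy]
      calc (x : S) * x = (x : S) * x * (n * n) := by rw [hn1, mul_one]
        _ = (x : S) * ((x : S) * n) * n := by group
        _ = (x : S) * (n * (x : S)) * n := by rw [hcen n hn1 (x : S)]
        _ = _ := by group
  have hUinv : ∀ (γ : MulAut S) (x : S), x ∈ U → γ x ∈ U := fun γ x hx =>
    ⟨hCinv γ x hx.1, by rw [← map_mul, ← map_mul, hx.2, map_one]⟩
  let act : MulAut S → U →* U := fun γ =>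
    MonoidHom.mk' (fun x => (⟨γ x, hUinv γ x x.2⟩ : U)) fun a b => Subtype.ext (map_mul γ _ _)
  have hNle : ∀ γ : MulAut S, N ≤ N.comap (act γ) := fun γ x hx => by
    show γ (x : S) * γ (x : S) = 1
    rw [← map_mul, show (x : S) * x = 1 from hx, map_one]
  let ρ : fixInv S →* AddMonoid.End (Additive (U ⧸ N)) :=
    { toFun := fun γ => (QuotientGroup.map N N (act γ.1) (hNle γ.1)).toAdditive
      map_one' := AddMonoidHom.ext fun z => by
        obtain ⟨z, rfl⟩ := Additive.ofMul.surjective z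
        obtain ⟨x, rfl⟩ := QuotientGroup.mk'_surjective N z
        rfl
      map_mul' := fun a b => AddMonoidHom.ext fun z => by
        obtain ⟨z, rfl⟩ := Additive.ofMul.surjective z
        obtain ⟨x, rfl⟩ := QuotientGroup.mk'_surjective N z
        rfl }
  let q : Additive (U ⧸ N) → Additive N := fun z => Additive.ofMul (qs z.toMul)
  have hpol : ∀ x y : U, ((((polar q (Additive.ofMul (QuotientGroup.mk x : U ⧸ N))
      (Additive.ofMul (QuotientGroup.mk y : U ⧸ N))).toMul : N) : U) : S) = ⁅(y : S), (x : S)⁆ := by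
    intro x y
    show ((x : S) * y) * ((x : S) * y) * ((x : S) * x) * ((y : S) * y) = _
    rw [hmul _ (hUC x) _ (hUC y)]
    have e2 := hcen _ x.2.2
    calc ⁅(y : S), (x : S)⁆ * ((x : S) * x * ((y : S) * y)) * ((x : S) * x) * ((y : S) * y)
        = ⁅(y : S), (x : S)⁆ * ((x : S) * x) * (((y : S) * y) * ((x : S) * x)) * ((y : S) * y) := by
          group
      _ = ⁅(y : S), (x : S)⁆ * ((x : S) * x) * (((x : S) * x) * ((y : S) * y)) * ((y : S) * y) := by
          rw [e2]
      _ = ⁅(y : S), (x : S)⁆ * (((x : S) * x) * ((x : S) * x)) * (((y : S) * y) * ((y : S) * y)) := by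
          group
      _ = _ := by rw [x.2.2, y.2.2, mul_one, mul_one]
  have hA : Aniso ρ q := by
    refine ⟨?_, ?_, ?_, ?_, ?_⟩
    · intro z
      obtain ⟨z, rfl⟩ := Additive.ofMul.surjective z
      obtain ⟨x, rfl⟩ := QuotientGroup.mk'_surjective N z
      exact congrArg Additive.ofMul ((QuotientGroup.eq_one_iff (x * x)).2 (hsN x))
    · intro e
      obtain ⟨e, rfl⟩ := Additive.ofMul.surjective e
      exact congrArg Additive.ofMul (Subtype.ext (Subtype.ext e.2) : e * e = 1)
    · intro a b c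
      obtain ⟨a, rfl⟩ := Additive.ofMul.surjective a
      obtain ⟨b, rfl⟩ := Additive.ofMul.surjective b
      obtain ⟨c, rfl⟩ := Additive.ofMul.surjective c
      obtain ⟨x, rfl⟩ := QuotientGroup.mk'_surjective N a
      obtain ⟨y, rfl⟩ := QuotientGroup.mk'_surjective N b
      obtain ⟨w, rfl⟩ := QuotientGroup.mk'_surjective N c
      apply Additive.toMul.injective
      refine Subtype.ext (Subtype.ext ?_)
      refine (hpol (x * y) w).trans ?_
      refine Eq.trans ?_ (congrArg₂ (· * ·) (hpol x w).symm (hpol y w).symm)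
      have e := hc _ (hUC y) _ (hUC w) (x : S) (hUC x)
      show ⁅(w : S), (x : S) * y⁆ = ⁅(w : S), (x : S)⁆ * ⁅(w : S), (y : S)⁆
      calc ⁅(w : S), (x : S) * y⁆ = ⁅(w : S), (x : S)⁆ * ((x : S) * ⁅(w : S), (y : S)⁆ * (x : S)⁻¹) := by
            simp only [commutatorElement_def]; group
        _ = _ := by rw [← e, mul_inv_cancel_right]
    · intro γ z
      obtain ⟨z, rfl⟩ := Additive.ofMul.surjective z
      obtain ⟨x, rfl⟩ := QuotientGroup.mk'_surjective N z
      refine congrArg Additive.ofMul (Subtype.ext (Subtype.ext ?_))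
      show γ.1 (x : S) * γ.1 (x : S) = (x : S) * x
      rw [← map_mul]
      exact γ.2 _ x.2.2
    · intro z hz
      obtain ⟨z, rfl⟩ := Additive.ofMul.surjective z
      obtain ⟨x, rfl⟩ := QuotientGroup.mk'_surjective N z
      refine congrArg Additive.ofMul ((QuotientGroup.eq_one_iff x).2 ?_)
      have h1 := congrArg (fun t : Additive N => (((Additive.toMul t : N) : U) : S)) hz
      exact h1
  let ρ' := QuotientGroup.lift ρ.ker ρ le_rfl
  have hA' : Aniso ρ' q := ⟨hA.two, hA.two', hA.add_left, fun d x => by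
    obtain ⟨d, rfl⟩ := QuotientGroup.mk'_surjective _ d
    exact hA.invar d x, hA.aniso⟩
  have hquot : Group.IsSolvable (fixInv S ⧸ ρ.ker) := hA'.isSolvable fun d hd => by
    obtain ⟨d, rfl⟩ := QuotientGroup.mk'_surjective _ d
    exact (QuotientGroup.eq_one_iff _).2 (AddMonoidHom.ext hd)
  -- the kernel
  let K0 : Subgroup ρ.ker :=
    { carrier := {γ | ∀ x ∈ U, γ.1.1 x = x}
      one_mem' := fun _ _ => rfl
      mul_mem' := fun {a b} ha hb x hx => by
        show a.1.1 (b.1.1 x) = x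
        rw [hb x hx, ha x hx]
      inv_mem' := fun {a} ha x hx => by
        show (a.1.1)⁻¹ x = x
        conv_lhs => rw [← ha x hx]
        exact MulAut.inv_apply_self S a.1.1 x }
  haveI hK0 : K0.Normal := ⟨fun n hn g x hx => by
    show g.1.1 (n.1.1 (g.1.1⁻¹ x)) = x
    rw [hn _ (hUinv _ x hx), MulAut.apply_inv_self]⟩
  have hker : ∀ (γ : ρ.ker) (x : U), ∃ n : S, n * n = 1 ∧ γ.1.1 x = x * n := by
    intro γ x
    have h1 := DFunLike.congr_fun (MonoidHom.mem_ker.1 γ.2)
      (Additive.ofMul (QuotientGroup.mk x : U ⧸ N))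
    have h2 : ((act γ.1.1 x : U) : U ⧸ N) = (x : U ⧸ N) := congrArg Additive.toMul h1
    have h3 := QuotientGroup.eq.1 h2.symm
    exact ⟨_, h3, by push_cast; exact (mul_inv_cancel_left _ _).symm⟩
  have hK0p : IsPGroup 2 K0 := isPGroup_two_of_odd fun k hk => by
    have h1 : Odd (orderOf (k.1.1.1 : MulAut S)) := by
      rwa [orderOf_submonoid, orderOf_submonoid, orderOf_submonoid]
    exact Subtype.ext (Subtype.ext (Subtype.ext (hodd _ k.1.1.2 h1 k.2)))
  have hKq : Group.IsSolvable (ρ.ker ⧸ K0) := Group.isSolvable_of_comm fun a b => by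
    obtain ⟨a, rfl⟩ := QuotientGroup.mk'_surjective K0 a
    obtain ⟨b, rfl⟩ := QuotientGroup.mk'_surjective K0 b
    rw [← map_mul, ← map_mul]
    refine QuotientGroup.eq.2 fun x hx => ?_
    obtain ⟨n, hn, ha⟩ := hker a ⟨x, hx⟩
    obtain ⟨m, hm, hb⟩ := hker b ⟨x, hx⟩
    have e1 : a.1.1 (b.1.1 x) = b.1.1 (a.1.1 x) := by
      rw [hb, ha, map_mul, map_mul, ha, hb, a.1.2 m hm, b.1.2 n hn]
      show x * n * m = x * m * n
      rw [mul_assoc, mul_assoc, hcen n hn m]
    show (a.1.1 * b.1.1)⁻¹ (b.1.1 (a.1.1 x)) = x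
    rw [← e1]
    exact MulAut.inv_apply_self S (a.1.1 * b.1.1) x
  refine CfsgLib.ConstDiff.isSolvable_of_normal ρ.ker ?_ hquot
  exact CfsgLib.ConstDiff.isSolvable_of_normal K0 (isSolvable_two hK0p) hKq

/-- **The automorphisms fixing the commuting involutions of a 2-group form a solvable group.** -/
theorem isSolvable_fixInv (hS : IsPGroup 2 S)
    (hcomm : ∀ x y : S, x * x = 1 → y * y = 1 → x * y = y * x) : Group.IsSolvable (fixInv S) := by
  haveI : Finite (MulAut S) := Finite.of_injective (fun f : MulAut S => (f : S → S)) DFunLike.coe_injective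
  let P : Subgroup S := Subgroup.centralizer {e : S | e * e = 1}
  have hmem : ∀ x : S, x * x = 1 → x ∈ P := fun x hx =>
    Subgroup.mem_centralizer_iff.2 fun e he => hcomm e x he hx
  have hconj : ∀ (γ : MulAut S) (x : S), x ∈ P → γ x ∈ P := fun γ x hx =>
    Subgroup.mem_centralizer_iff.2 fun e he => by
      have h1 : γ⁻¹ e * γ⁻¹ e = 1 := by rw [← map_mul, show e * e = 1 from he, map_one]
      have h2 := congrArg γ (Subgroup.mem_centralizer_iff.1 hx _ h1)
      rwa [map_mul, map_mul, MulAut.apply_inv_self] at h2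
  let toP : MulAut S → MulAut P := fun γ =>
    { toFun := fun x => ⟨γ x, hconj γ x x.2⟩
      invFun := fun x => ⟨γ⁻¹ x, hconj γ⁻¹ x x.2⟩
      left_inv := fun x => Subtype.ext (MulAut.inv_apply_self S γ x)
      right_inv := fun x => Subtype.ext (MulAut.apply_inv_self S γ x)
      map_mul' := fun a b => Subtype.ext (map_mul γ _ _) }
  let res : fixInv S →* fixInv P := MonoidHom.mk'
    (fun γ => ⟨toP γ.1, fun x hx => Subtype.ext (γ.2 x (congrArg Subtype.val hx))⟩)
    fun a b => rfl
  haveI h1 : Group.IsSolvable (fixInv P) := isSolvable_fixInv_of_central (hS.to_subgroup P)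
    fun e he g => Subtype.ext (Subgroup.mem_centralizer_iff.1 g.2 _ (congrArg Subtype.val he :))
  haveI h2 : Group.IsSolvable res.ker := Group.isSolvable_of_comm fun a b => by
    refine Subtype.ext (Subtype.ext (MulEquiv.ext fun x => ?_))
    have hfix : ∀ (γ : res.ker) (y : S), y ∈ P → γ.1.1 y = y := fun γ y hy =>
      by
        have h := congrArg (fun t : fixInv P => ((t.1 ⟨y, hy⟩ : P) : S)) (MonoidHom.mem_ker.1 γ.2)
        exact h
    have hd : ∀ γ : res.ker, x⁻¹ * γ.1.1 x ∈ P ∧ ∀ y ∈ P, (x⁻¹ * γ.1.1 x) * y = y * (x⁻¹ * γ.1.1 x) := by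
      intro γ
      have hcen : ∀ y ∈ P, (x⁻¹ * γ.1.1 x) * y = y * (x⁻¹ * γ.1.1 x) := fun y hy => by
        have h1 : x * y * x⁻¹ ∈ P := hconj (MulAut.conj x) y hy
        have h2 := hfix γ _ h1
        rw [map_mul, map_mul, map_inv, hfix γ y hy] at h2
        calc x⁻¹ * γ.1.1 x * y = x⁻¹ * (γ.1.1 x * y * (γ.1.1 x)⁻¹) * γ.1.1 x := by group
          _ = x⁻¹ * (x * y * x⁻¹) * γ.1.1 x := by rw [h2]
          _ = y * (x⁻¹ * γ.1.1 x) := by group
      exact ⟨Subgroup.mem_centralizer_iff.2 fun e he => (hcen e (hmem e he)).symm, hcen⟩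
    show a.1.1 (b.1.1 x) = b.1.1 (a.1.1 x)
    rw [show b.1.1 x = x * (x⁻¹ * b.1.1 x) by group, map_mul, hfix a _ (hd b).1,
      show a.1.1 x = x * (x⁻¹ * a.1.1 x) by group, map_mul, hfix b _ (hd a).1]
    rw [show b.1.1 x = x * (x⁻¹ * b.1.1 x) by group]
    simp only [mul_assoc, inv_mul_cancel_left]
    exact congrArg (x * ·) (by
      have := (hd a).2 _ (hd b).1
      simpa [mul_assoc] using this)
  exact solvable_of_ker_le_range res.ker.subtype res (res.ker.range_subtype).ge

end CfsgLib.OutSylowTwo
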